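import Groth.Agent.StMod.Sect.FlatDescent
import Groth.Agent.AlgSpBasic.BddFibresCover

/-!
# Cohomological affineness descends along faithfully flat morphisms of targets (helper34)
-/

set_option autoImplicit false
set_option backward.isDefEq.respectTransparency false
set_option backward.isDefEq.respectTransparency.types false

universe u

open CategoryTheory CategoryTheory.Limits AlgebraicGeometry Opposite TopologicalSpace

noncomputable section

namespace Groth.StModSect

open Groth.StkBase Groth.AlgStBasic Groth.AlgSpBasic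

variable {S : Scheme.{u}} {𝒳 : AlgSt.Cat S} {M M' : AlgSp.Sp S}
variable {π : 𝒳 ⥤ᵇ AlgSt.ofSp M}

/-- Every affine scheme etale over `M` is covered flatly by affine schemes etale over `M'`. -/
def HasEtaleLifts (g : M' ⟶ M) : Prop :=
  ∀ E : AlgSp.EtOver M, IsAffine E.obj.left.left → ∀ x : E.obj.left.left,
    ∃ (E' : AlgSp.EtOver M') (c : E'.obj.left ⟶ E.obj.left), IsAffine E'.obj.left.left ∧ Flat c.left ∧
      (∃ y, c.left y = x) ∧ E'.obj.hom ≫ g = (AlgSp.yon S).map c ≫ E.obj.hom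

theorem map_etaOf_sec {g : M' ⟶ M} {E : AlgSp.EtOver M} {E' : AlgSp.EtOver M'}
    {c : E'.obj.left ⟶ E.obj.left} (h : E'.obj.hom ≫ g = (AlgSp.yon S).map c ≫ E.obj.hom) :
    M.obj.map c.op (StMod.etaOf E).sec = ((AlgSt.ofSpMap g).obj (StMod.etaOf E')).sec := by
  show M.obj.map c.op (yEquiv E.obj.hom) = g.hom.app _ (yEquiv E'.obj.hom)
  refine ((AlgSp.J S).uliftYonedaEquiv_naturality E.obj.hom c).trans ?_
  refine (congrArg yEquiv h).symm.trans ?_
  exact (AlgSp.J S).uliftYonedaEquiv_comp _ _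

theorem hasFlatCover_of_lifts {g : M' ⟶ M} (hl : HasEtaleLifts g) (E : AlgSp.EtOver M)
    (hE : IsAffine E.obj.left.left) (P : (AlgSt.ofSp M).obj → Prop)
    (hP : ∀ E' : AlgSp.EtOver M', IsAffine E'.obj.left.left → P ((AlgSt.ofSpMap g).obj (StMod.etaOf E'))) :
    HasFlatCover (StMod.etaOf E) P := by
  intro x
  obtain ⟨E', c, hE', hc, ⟨y, hy⟩, h⟩ := hl E hE x
  refine ⟨(AlgSt.ofSpMap g).obj (StMod.etaOf E'),
    eltHom (a := (AlgSt.ofSpMap g).obj (StMod.etaOf E')) c (map_etaOf_sec h), ?_, ?_, ?_, hP E' hE'⟩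
  · exact hE'
  · exact hc
  · exact ⟨y, hy⟩

/-- Cohomological affineness descends along a morphism of targets with flat etale lifts. -/
theorem isCohAffine_of_fpFst (h𝒳 : FibCat.IsFibGrpd 𝒳.p)
    (hqc : AlgSt.IsQuasiCompactMor Scheme.fppfPrecoverage π) (hqs : AlgSt.IsQuasiSeparatedMor π)
    {g : M' ⟶ M} (hl : HasEtaleLifts g)
    (h' : StMod.IsCohAffine (FibCat.fpFst (AlgSt.ofSpMap g) π)) : StMod.IsCohAffine π := by
  intro F G u hu E hE
  have : IsAffine (StMod.etaOf E).base.left := hE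
  have : IsAffine (StMod.sch (AlgSt.ofSp M) (StMod.etaOf E)) := hE
  obtain ⟨A⟩ := exists_atlas h𝒳 hqc hqs (η := StMod.etaOf E)
  refine relSectMap_surjective_of_cover h𝒳 A u (hasFlatCover_of_lifts hl E hE _ fun E' hE' => ?_)
  refine relSectMap_surjective_of_comap u.hom ?_
  exact h' ((StMod.comapQ (FibCat.fpSnd (AlgSt.ofSpMap g) π)).map u) (isSurj_comapMap _ u.hom hu) E' hE'

/-- A faithfully flat morphism of algebraic spaces has flat etale lifts. -/
theorem hasEtaleLifts_of_flat_surjective (M₀ M₀' : AlgSp.Space S) (g : M₀'.obj ⟶ M₀.obj)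
    (hgf : AlgSp.LocP @Flat g) (hgs : AlgSp.IsSurjectiveMor g) : HasEtaleLifts g := by
  intro E hE x
  let fst := pullback.fst E.obj.hom g
  let snd := pullback.snd E.obj.hom g
  have sq : IsPullback fst snd E.obj.hom g := IsPullback.of_hasPullback _ _
  have hyon := AlgSp.IsAlgSpace.yon_obj E.obj.left
  have hP := isAlgSpace_of_isPullback sq M₀.property.diag hyon M₀'.property
  have hf : AlgSp.LocP @Flat fst :=
    stableBaseChange_locP M₀'.property M₀.property hP hyon g E.obj.hom fst snd sq.flip hgf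
  have hs : AlgSp.IsSurjectiveMor fst :=
    stableBaseChange_surjective M₀'.property M₀.property hP hyon g E.obj.hom fst snd sq.flip hgs
  have hsnd : AlgSp.RepWith @Etale snd := MorphismProperty.of_isPullback sq E.property
  obtain ⟨W, r, hr, hrs⟩ := hP.atlas
  obtain ⟨c, hc⟩ := (AlgSp.yon S).map_surjective (r ≫ fst)
  have hcf : Flat c.left := hf r (𝟙 _) c hr (AlgSp.repWith_id @Etale _) (by rw [Category.comp_id, hc])
  obtain ⟨w, hw⟩ : ∃ w, c.left w = x := by
    obtain ⟨z, hz⟩ := hs (AlgSp.Points.schemeHomeo E.obj.left x)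
    obtain ⟨t, rfl⟩ := surjective_ofPt_of_repWith hrs z
    refine ⟨t, (AlgSp.Points.schemeHomeo E.obj.left).injective ?_⟩
    rw [← hz, ofPt_eq_map, ← AlgSp.Points.map_comp, ← hc]
    exact (AlgSp.Points.map_yon_map_apply _ _).symm
  obtain ⟨_, ⟨U₀, hU, rfl⟩, hwU, -⟩ :=
    W.left.isBasis_affineOpens.exists_subset_of_mem_open (Set.mem_univ w) isOpen_univ
  let U : W.left.Opens := U₀
  let W₀ : Over S := Over.mk (U.ι ≫ W.hom)
  let j : W₀ ⟶ W := Over.homMk U.ι rfl
  have hj : AlgSp.RepWith @Etale ((AlgSp.yon S).map j) :=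
    (AlgSp.repWith_yon_map_iff @Etale j).2 (inferInstanceAs (Etale U.ι))
  refine ⟨AlgSp.EtOver.mk ((AlgSp.yon S).map j ≫ r ≫ snd) (repWith_comp hj (repWith_comp hr hsnd)),
    j ≫ c, ?_, ?_, ⟨⟨w, hwU⟩, ?_⟩, ?_⟩
  · exact hU
  · show Flat (U.ι ≫ c.left)
    infer_instance
  · exact hw
  · show ((AlgSp.yon S).map j ≫ r ≫ snd) ≫ g = _
    rw [Functor.map_comp, Category.assoc, Category.assoc, Category.assoc, ← sq.w, hc, Category.assoc]

end Groth.StModSect
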