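import Groth.Agent.StMod.Sect.Criterion

/-!
# The unit `O_M ⟶ π_* O` along base change and on non-affine bases (helper34)
-/

set_option autoImplicit false
set_option backward.isDefEq.respectTransparency false
set_option backward.isDefEq.respectTransparency.types false

universe u

open CategoryTheory CategoryTheory.Limits AlgebraicGeometry Opposite TopologicalSpace

noncomputable section

namespace Groth.StModSect

open Groth.StkBase Groth.AlgStBasic Groth.AlgSpBasic

variable {S : Scheme.{u}} {𝒳 : AlgSt.Cat S} {M M' : AlgSp.Sp S}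
variable (π : 𝒳 ⥤ᵇ AlgSt.ofSp M) (g : M' ⟶ M) (η' : (AlgSt.ofSp M').obj)

/-- Functions agreeing on an open cover are equal. -/
theorem eq_of_appTop_ι {X : Scheme.{u}} {ι : Type*} (U : ι → X.Opens) (hU : ⨆ i, U i = ⊤) {r r' : Γ(X, ⊤)}
    (h : ∀ i, (U i).ι.appTop r = (U i).ι.appTop r') : r = r' := by
  refine X.sheaf.eq_of_locally_eq' U ⊤ (fun i => homOfLE le_top) hU.ge r r' fun i => ?_
  have h1 := congrArg (U i).topIso.hom (h i)
  simp only [Scheme.Opens.ι_appTop, Scheme.Opens.topIso_hom, ← CommRingCat.comp_apply, ← Functor.map_comp] at h1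
  exact h1

/-- Functions on an open cover which agree near every point of the overlaps glue. -/
theorem exists_appTop_ι_eq {X : Scheme.{u}} {ι : Type u} (U : ι → X.Opens) (hU : ⨆ i, U i = ⊤)
    (r : ∀ i, Γ((U i).toScheme, ⊤))
    (h : ∀ i j x, x ∈ U i → x ∈ U j → ∃ (V : X.Opens) (hi : V ≤ U i) (hj : V ≤ U j),
      x ∈ V ∧ (X.homOfLE hi).appTop (r i) = (X.homOfLE hj).appTop (r j)) :
    ∃ R : Γ(X, ⊤), ∀ i, (U i).ι.appTop R = r i := by
  have hcompat : TopCat.Presheaf.IsCompatible X.sheaf.1 U fun i => (U i).topIso.hom (r i) := by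
    intro i j
    choose V hi hj hx hV using fun x : (U i ⊓ U j : X.Opens) => h i j x.1 x.2.1 x.2.2
    refine X.sheaf.eq_of_locally_eq' V _ (fun x => homOfLE (le_inf (hi x) (hj x)))
      (fun y hy => Opens.mem_iSup.2 ⟨⟨y, hy⟩, hx ⟨y, hy⟩⟩) _ _ fun x => ?_
    have h1 := congrArg (V x).topIso.hom (hV x)
    simp only [Scheme.homOfLE_appTop, Scheme.Opens.topIso_hom, ← CommRingCat.comp_apply, ← Functor.map_comp] at h1
    simp only [Scheme.Opens.topIso_hom]
    change X.presheaf.map _ (X.presheaf.map _ (X.presheaf.map _ (r i))) =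
      X.presheaf.map _ (X.presheaf.map _ (X.presheaf.map _ (r j)))
    simp only [← CommRingCat.comp_apply, ← Functor.map_comp]
    exact h1
  obtain ⟨R, hR, -⟩ := X.sheaf.existsUnique_gluing' U ⊤ (fun i => homOfLE le_top) hU.ge _ hcompat
  refine ⟨R, fun i => (ConcreteCategory.bijective_of_isIso (U i).topIso.hom).1 ?_⟩
  refine Eq.trans ?_ (hR i)
  simp only [Scheme.Opens.ι_appTop, Scheme.Opens.topIso_hom, ← CommRingCat.comp_apply, ← Functor.map_comp]
  rfl

theorem eqToHom_aux {A B C C' D : Over S} (e₁ : A = B) (e₂ : B = C) (e₃ : C = C') (e₄ : D = D)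
    (e₅ : A = C') (e₆ : C' = C') (f : C' ⟶ D) :
    eqToHom e₁ ≫ eqToHom e₂ ≫ eqToHom e₃ ≫ f ≫ eqToHom e₄ = eqToHom e₅ ≫ eqToHom e₆ ≫ f := by
  subst e₁ e₂ e₃; simp

theorem baseOver_gArrow (z : (fpCat π g).obj) (β : (fpπ π g).obj z ⟶ η') :
    StMod.baseOver π z.obj.snd (gArrow π g η' z β) =
      eqToHom (fp_p_snd z) ≫ StMod.baseOver (fpπ π g) z β := by
  show eqToHom _ ≫ (AlgSt.ofSp M).p.map (z.obj.iso.inv ≫ (AlgSt.ofSpMap g).map β) = _
  rw [Functor.map_comp, (IsVert.inv (fp_isVert z)).map_eq, map_map (AlgSt.ofSpMap g) β]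
  exact eqToHom_aux (π.w_obj z.obj.snd).symm _ _ _ (fp_p_snd z) _ _

theorem appTop_eqToHom_trans {A B : Over S} (h : A = B) (r : Γ(A.left, ⊤)) :
    (eqToHom h).left.appTop ((eqToHom h.symm).left.appTop r) = r := by
  subst h; simp

/-- Bijectivity of the unit descends from the base change to the image of an object of `M'`. -/
theorem unitSect_bijective_of_fpFst (h : Function.Bijective (StMod.unitSect (fpπ π g) η')) :
    Function.Bijective (StMod.unitSect π ((AlgSt.ofSpMap g).obj η')) := by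
  refine ⟨(injective_iff_map_eq_zero _).2 fun r hr => ?_, fun s => ?_⟩
  · refine (injective_iff_map_eq_zero _).1 h.1 r (StMod.Mod.RelSect.ext _ _ _ fun z β => ?_)
    have h1 := congrFun (congrFun (congrArg Subtype.val hr) z.obj.snd) (gArrow π g η' z β)
    change (StMod.baseOver π z.obj.snd (gArrow π g η' z β)).left.appTop r = 0 at h1
    rw [baseOver_gArrow, Over.comp_left, Scheme.Hom.comp_appTop] at h1
    show (StMod.baseOver (fpπ π g) z β).left.appTop r = 0
    have h2 := congrArg (eqToHom (fp_p_snd z).symm).left.appTop h1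
    rw [map_zero] at h2
    exact (appTop_eqToHom_trans (fp_p_snd z).symm _).symm.trans h2
  · let s' : (StMod.O (fpCat π g)).RelSect (fpπ π g) η' :=
      ⟨fun z β => (eqToHom (fp_p_snd z).symm).left.appTop (s.1 z.obj.snd (gArrow π g η' z β)),
        fun z' z f β => by
          rw [StMod.O_mapTop]
          have hs : (StMod.O 𝒳).mapTop f.hom.snd (s.1 z.obj.snd (gArrow π g η' z β)) =
              s.1 z'.obj.snd (gArrow π g η' z' ((fpπ π g).map f ≫ β)) := by
            refine (s.2 f.hom.snd _).trans (congrArg (s.1 z'.obj.snd) ?_)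
            have w : (AlgSt.ofSpMap g).map f.hom.fst ≫ z.obj.iso.hom =
                z'.obj.iso.hom ≫ π.map f.hom.snd := f.hom.w
            show π.map f.hom.snd ≫ z.obj.iso.inv ≫ (AlgSt.ofSpMap g).map β =
              z'.obj.iso.inv ≫ (AlgSt.ofSpMap g).map (f.hom.fst ≫ β)
            rw [Functor.map_comp, ← cancel_epi z'.obj.iso.hom, ← Category.assoc, ← w, Category.assoc,
              Iso.hom_inv_id_assoc, Iso.hom_inv_id_assoc]
          refine Eq.trans ?_ (congrArg (eqToHom (fp_p_snd z').symm).left.appTop hs)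
          rw [StMod.O_mapTop]
          show (((fpCat π g).p.map f).left).appTop ((eqToHom (fp_p_snd z).symm).left.appTop _) =
            (eqToHom (fp_p_snd z').symm).left.appTop ((𝒳.p.map f.hom.snd).left.appTop _)
          have e : (fpCat π g).p.map f ≫ eqToHom (fp_p_snd z).symm =
              eqToHom (fp_p_snd z').symm ≫ 𝒳.p.map f.hom.snd := by
            erw [fp_map_snd f]
            rw [eqToHom_trans_assoc, eqToHom_refl, Category.id_comp]
            rfl
          exact congr(($(congrArg (fun m => Over.Hom.left m) e)).appTop (s.1 z.obj.snd (gArrow π g η' z β)))⟩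
    obtain ⟨r, hr⟩ := h.2 s'
    refine ⟨r, StMod.Mod.RelSect.ext _ _ _ fun ξ α => ?_⟩
    have h1 := congrFun (congrFun (congrArg Subtype.val hr) (yObj π g η' ξ α)) (yArrow π g η' ξ α)
    refine Eq.trans ?_ (h1.trans ?_)
    · show (StMod.baseOver π ξ α).left.appTop r = _
      refine congrArg (fun m : 𝒳.p.obj ξ ⟶ η'.base => m.left.appTop r) ?_
      show StMod.baseOver π ξ α = eqToHom _ ≫ StMod.baseOver π ξ α
      rw [eqToHom_refl, Category.id_comp]
    · show (eqToHom (rfl : 𝒳.p.obj ξ = 𝒳.p.obj ξ)).left.appTop (s.1 ξ (gArrow π g η' (yObj π g η' ξ α) (yArrow π g η' ξ α))) = _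
      rw [gArrow_yArrow, eqToHom_refl, Over.id_left, Scheme.Hom.id_appTop]
      rfl

variable {π}

/-- The unit is bijective on every object etale over the target once it is on the affine ones. -/
theorem unitIsIso_of_affine (h𝒳 : FibCat.IsFibGrpd 𝒳.p)
    (h : ∀ E : AlgSp.EtOver M, IsAffine E.obj.left.left →
      Function.Bijective (StMod.unitSect π (StMod.etaOf E))) : StMod.UnitIsIso π := by
  intro E
  let X := E.obj.left.left
  -- the affine opens as objects etale over `M`
  let W : ∀ U : X.affineOpens, Over S := fun U => Over.mk (U.1.ι ≫ E.obj.left.hom)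
  let j : ∀ U : X.affineOpens, W U ⟶ E.obj.left := fun U => Over.homMk U.1.ι rfl
  let EU : X.affineOpens → AlgSp.EtOver M := fun U =>
    AlgSp.EtOver.mk ((AlgSp.yon S).map (j U) ≫ E.obj.hom)
      (repWith_comp ((AlgSp.repWith_yon_map_iff @Etale (j U)).2 (inferInstanceAs (Etale U.1.ι))) E.property)
  let k : ∀ U, StMod.etaOf (EU U) ⟶ StMod.etaOf E := fun U =>
    eltHom (a := StMod.etaOf (EU U)) (j U) (by
      show M.obj.map (j U).op (yEquiv E.obj.hom) = yEquiv ((AlgSp.yon S).map (j U) ≫ E.obj.hom)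
      exact (AlgSp.J S).uliftYonedaEquiv_naturality E.obj.hom (j U))
  have hb : ∀ U, Function.Bijective (StMod.unitSect π (StMod.etaOf (EU U))) := fun U => h _ U.2
  refine ⟨(injective_iff_map_eq_zero _).2 fun r hr => ?_, fun s => ?_⟩
  · refine eq_of_appTop_ι (fun U : X.affineOpens => U.1) (iSup_affineOpens_eq_top X) fun U => ?_
    rw [map_zero]
    refine (injective_iff_map_eq_zero _).1 (hb U).1 _ ?_
    refine (relRes_unitSect (k U) r).symm.trans ?_
    rw [hr, map_zero]
  · choose rU hrU using fun U => (hb U).2 (relRes (k U) (StMod.O 𝒳) s)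
    have hres : ∀ (V U : X.affineOpens) (hle : V.1 ≤ U.1), (X.homOfLE hle).appTop (rU U) = rU V := by
      intro V U hle
      let i : W V ⟶ W U := Over.homMk (X.homOfLE hle) (by
        show X.homOfLE hle ≫ U.1.ι ≫ E.obj.left.hom = V.1.ι ≫ E.obj.left.hom
        rw [Scheme.homOfLE_ι_assoc])
      have hij : i ≫ j U = j V := Over.OverMorphism.ext (X.homOfLE_ι hle)
      let l : StMod.etaOf (EU V) ⟶ StMod.etaOf (EU U) := eltHom i (by
        show M.obj.map i.op (yEquiv ((AlgSp.yon S).map (j U) ≫ E.obj.hom)) =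
          yEquiv ((AlgSp.yon S).map (j V) ≫ E.obj.hom)
        refine ((AlgSp.J S).uliftYonedaEquiv_naturality _ i).trans ?_
        refine congrArg yEquiv ?_
        show (AlgSp.yon S).map i ≫ (AlgSp.yon S).map (j U) ≫ E.obj.hom = _
        rw [← Functor.map_comp_assoc, hij])
      have hl : l ≫ k U = k V := elt_hom_ext_p hij
      refine (hb V).1 ?_
      refine (relRes_unitSect l (rU U)).symm.trans ?_
      rw [hrU, hrU, ← hl]
      exact StMod.Mod.RelSect.ext _ _ _ fun ξ β => congrArg (s.1 ξ) (Category.assoc _ _ _)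
    obtain ⟨r, hr⟩ := exists_appTop_ι_eq (fun U : X.affineOpens => U.1) (iSup_affineOpens_eq_top X) rU
      fun U U' x hxU hxU' => by
        obtain ⟨_, ⟨V, hV, rfl⟩, hxV, hVle⟩ := X.isBasis_affineOpens.exists_subset_of_mem_open
          (show x ∈ (U.1 ⊓ U'.1 : X.Opens) from ⟨hxU, hxU'⟩) (U.1 ⊓ U'.1 : X.Opens).2
        exact ⟨V, fun y hy => (hVle hy).1, fun y hy => (hVle hy).2, hxV,
          (hres ⟨V, hV⟩ U (fun y hy => (hVle hy).1)).trans (hres ⟨V, hV⟩ U' (fun y hy => (hVle hy).2)).symm⟩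
    refine ⟨r, StMod.Mod.RelSect.ext _ _ _ fun ξ β => ?_⟩
    let f := (StMod.baseOver π ξ β).left
    refine eq_of_appTop_ι (fun U : X.affineOpens => f ⁻¹ᵁ U.1)
      (by rw [← Scheme.Hom.preimage_iSup, iSup_affineOpens_eq_top, Scheme.Hom.preimage_top]) fun U => ?_
    obtain ⟨ζ, q, hζ, hq⟩ := exists_lift' h𝒳 (x := ξ) (V := Over.mk ((f ⁻¹ᵁ U.1).ι ≫ (𝒳.p.obj ξ).hom))
      (Over.homMk (f ⁻¹ᵁ U.1).ι rfl)
    have hqb : StMod.bmap 𝒳 q = (eqToHom hζ).left ≫ (f ⁻¹ᵁ U.1).ι := by
      show (𝒳.p.map q).left = _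
      rw [hq]; rfl
    obtain ⟨β', -, hβ'⟩ := exists_arrow (k U) (ξ := ζ) (π.map q ≫ β) ((eqToHom hζ).left ≫ (f ∣_ U.1)) (by
      rw [← StMod.bmap_comp_baseOver_left, hqb]
      show (_ ≫ (f ∣_ U.1)) ≫ U.1.ι = _
      rw [Category.assoc, Category.assoc, morphismRestrict_ι])
    have h1 : (StMod.unitSect π (StMod.etaOf E) r).1 ζ (π.map q ≫ β) = s.1 ζ (π.map q ≫ β) := by
      have e := congrFun (congrFun (congrArg Subtype.val
        ((relRes_unitSect (k U) r).trans ((congrArg (StMod.unitSect π _) (hr U)).trans (hrU U)))) ζ) β'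
      change (StMod.unitSect π (StMod.etaOf E) r).1 ζ (β' ≫ k U) = s.1 ζ (β' ≫ k U) at e
      rwa [hβ'] at e
    rw [← (StMod.unitSect π (StMod.etaOf E) r).2 q β, ← s.2 q β, StMod.O_mapTop, StMod.O_mapTop, hqb,
      Scheme.Hom.comp_appTop] at h1
    have hi := isIso_eqToHom_left hζ
    exact (ConcreteCategory.bijective_of_isIso (eqToHom hζ).left.appTop).1 h1

end Groth.StModSect
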