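import Groth.Prelude.Def_StMod
import Groth.Agent.DescentBase.QCohHom
import Groth.Agent.StkBase.Basic

/-!
# Descent of sections of quasi-coherent modules on a category fibred in groupoids (helper34)

For a cartesian locally quasi-coherent module, sections over an object are the compatible sections
over an object lying fpqc over it.
-/

set_option autoImplicit false
set_option backward.isDefEq.respectTransparency false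
set_option backward.isDefEq.respectTransparency.types false

universe w v u

open CategoryTheory CategoryTheory.Limits AlgebraicGeometry Opposite TopologicalSpace

noncomputable section

namespace Groth.StModSect

open Groth.DescentBase
open Groth.QCohMod (res res_res res_self res_app)
open Groth.PicAux (pullSec pullSec_map)
open Groth.StkBase

variable {S : Scheme.{u}} {𝒳 : BasedCategory.{v, w} (Over S)} (F : StMod.Mod 𝒳)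
variable {ξ'' ξ' ξ : 𝒳.obj}

/-- The comparison map out of the inverse image. -/
def cmp (φ : ξ' ⟶ ξ) {g : StMod.sch 𝒳 ξ' ⟶ StMod.sch 𝒳 ξ} (hg : StMod.bmap 𝒳 φ = g) :
    (Scheme.Modules.pullback g).obj (F.obj ξ) ⟶ F.obj ξ' :=
  ((Scheme.Modules.pullbackPushforwardAdjunction g).homEquiv (F.obj ξ) (F.obj ξ')).symm (F.map φ hg)

theorem isIso_cmp (hF : F.IsCartesian) (φ : ξ' ⟶ ξ) {g : StMod.sch 𝒳 ξ' ⟶ StMod.sch 𝒳 ξ}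
    (hg : StMod.bmap 𝒳 φ = g) : IsIso (cmp F φ hg) :=
  hF φ hg

theorem cmp_pullSec (φ : ξ' ⟶ ξ) {g : StMod.sch 𝒳 ξ' ⟶ StMod.sch 𝒳 ξ} (hg : StMod.bmap 𝒳 φ = g)
    {U : (StMod.sch 𝒳 ξ).Opens} (m : Γ(F.obj ξ, U)) :
    (cmp F φ hg).app (g ⁻¹ᵁ U) (pullSec g _ m) = (F.map φ hg).app U m := by
  have h : (Scheme.Modules.pullbackPushforwardAdjunction g).unit.app (F.obj ξ) ≫
      (Scheme.Modules.pushforward g).map (cmp F φ hg) = F.map φ hg :=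
    ((Scheme.Modules.pullbackPushforwardAdjunction g).homEquiv_unit (F.obj ξ) (F.obj ξ') (cmp F φ hg)).symm.trans
      (((Scheme.Modules.pullbackPushforwardAdjunction g).homEquiv (F.obj ξ) (F.obj ξ')).apply_symm_apply _)
  exact congr(($h).app U m)

theorem mapTop_eq_cmp (φ : ξ' ⟶ ξ) {g : StMod.sch 𝒳 ξ' ⟶ StMod.sch 𝒳 ξ} (hg : StMod.bmap 𝒳 φ = g)
    (m : Γ(F.obj ξ, ⊤)) : F.mapTop φ m = (cmp F φ hg).app ⊤ (pullSec g (F.obj ξ) m) := by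
  rw [F.mapTop_eq φ hg]
  exact (cmp_pullSec F φ hg m).symm

theorem cmp_app_bijective (hF : F.IsCartesian) (φ : ξ' ⟶ ξ) {g : StMod.sch 𝒳 ξ' ⟶ StMod.sch 𝒳 ξ}
    (hg : StMod.bmap 𝒳 φ = g) (U : (StMod.sch 𝒳 ξ').Opens) :
    Function.Bijective ((cmp F φ hg).app U) := by
  have := isIso_cmp F hF φ hg
  refine ⟨fun a b hab => ?_, fun y => ⟨(inv (cmp F φ hg)).app U y, ?_⟩⟩
  · have h : ∀ x, (inv (cmp F φ hg)).app U ((cmp F φ hg).app U x) = x := fun x =>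
      congr(($(IsIso.hom_inv_id (cmp F φ hg))).app U x)
    rw [← h a, ← h b, hab]
  · exact congr(($(IsIso.inv_hom_id (cmp F φ hg))).app U y)

/-- The comparison along a composite. -/
theorem cmp_comp (ψ : ξ'' ⟶ ξ') (φ : ξ' ⟶ ξ) {h : StMod.sch 𝒳 ξ'' ⟶ StMod.sch 𝒳 ξ'}
    {g : StMod.sch 𝒳 ξ' ⟶ StMod.sch 𝒳 ξ} {c : StMod.sch 𝒳 ξ'' ⟶ StMod.sch 𝒳 ξ}
    (hh : StMod.bmap 𝒳 ψ = h) (hg : StMod.bmap 𝒳 φ = g) (e : h ≫ g = c)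
    (hc : StMod.bmap 𝒳 (ψ ≫ φ) = c) :
    (pullTo h g c e (F.obj ξ)).hom ≫ cmp F (ψ ≫ φ) hc =
      (Scheme.Modules.pullback h).map (cmp F φ hg) ≫ cmp F ψ hh := by
  subst e
  refine pullback_hom_ext₂ h g fun U m => ?_
  simp only [Scheme.Modules.Hom.comp_app, CategoryTheory.comp_apply]
  refine Eq.trans (congrArg _ ((pullTo_pullSec h g _ rfl _ m).trans (res_self _ _))) ?_
  refine (cmp_pullSec F (ψ ≫ φ) hc m).trans ?_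
  refine Eq.trans ?_ (congrArg ((cmp F ψ hh).app _) (pullSec_map h _ (pullSec g _ m))).symm
  refine Eq.trans ?_ (congrArg (fun y => (cmp F ψ hh).app _ (pullSec h _ y))
    (cmp_pullSec F φ hg m)).symm
  refine Eq.trans ?_ (cmp_pullSec F ψ hh (U := g ⁻¹ᵁ U) _).symm
  exact congr($(F.map_comp_app ψ φ hh hg U) m)

theorem cmp_flat (ψ : ξ'' ⟶ ξ') (φ : ξ' ⟶ ξ) {h : StMod.sch 𝒳 ξ'' ⟶ StMod.sch 𝒳 ξ'}
    {g : StMod.sch 𝒳 ξ' ⟶ StMod.sch 𝒳 ξ} {c : StMod.sch 𝒳 ξ'' ⟶ StMod.sch 𝒳 ξ}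
    (hh : StMod.bmap 𝒳 ψ = h) (hg : StMod.bmap 𝒳 φ = g) (e : h ≫ g = c)
    (hc : StMod.bmap 𝒳 (ψ ≫ φ) = c) (y : El ((Scheme.Modules.pullback g).obj (F.obj ξ)) h) :
    (cmp F (ψ ≫ φ) hc).app ⊤ (flat g h c e y) = (cmp F ψ hh).app ⊤ (elMap (cmp F φ hg) h y) :=
  congr(($(cmp_comp F ψ φ hh hg e hc)).app ⊤ y)

variable {F}

/-- Sections inject along a flat surjection. -/
theorem mapTop_injective (hF : F.IsCartesian) (φ : ξ' ⟶ ξ) [Flat (StMod.bmap 𝒳 φ)]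
    [Surjective (StMod.bmap 𝒳 φ)] : Function.Injective (F.mapTop φ) := by
  intro a b hab
  rw [mapTop_eq_cmp F φ rfl, mapTop_eq_cmp F φ rfl] at hab
  refine pullSec_injective (ι := PUnit.{u + 1}) (f := fun _ => StMod.bmap 𝒳 φ)
    (fun x => ⟨⟨⟩, (StMod.bmap 𝒳 φ).surjective x⟩) fun _ => ?_
  exact (cmp_app_bijective F hF φ rfl _).1 hab

/-- A section on an fpqc cover which is compatible on all test objects descends. -/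
theorem exists_mapTop_eq (hp : FibCat.IsFibGrpd 𝒳.p) (hF : F.IsCartesian) (hF' : F.IsLocQCoh)
    (φ : ξ' ⟶ ξ) (hcov : Presieve.singleton (StMod.bmap 𝒳 φ) ∈ Scheme.fpqcPrecoverage (StMod.sch 𝒳 ξ))
    (x : Γ(F.obj ξ', ⊤))
    (hx : ∀ (ζ : 𝒳.obj) (ψ₁ ψ₂ : ζ ⟶ ξ'), ψ₁ ≫ φ = ψ₂ ≫ φ → F.mapTop ψ₁ x = F.mapTop ψ₂ x) :
    ∃ y : Γ(F.obj ξ, ⊤), F.mapTop φ y = x := by
  set g := StMod.bmap 𝒳 φ with hgdef
  obtain ⟨s, hs⟩ := (cmp_app_bijective F hF φ hgdef.symm (g ⁻¹ᵁ ⊤)).2 x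
  let f : ∀ _ : PUnit.{u + 1}, StMod.sch 𝒳 ξ' ⟶ StMod.sch 𝒳 ξ := fun _ => g
  have hf : Presieve.ofArrows (fun _ : PUnit.{u + 1} => StMod.sch 𝒳 ξ') f ∈
      Scheme.fpqcPrecoverage (StMod.sch 𝒳 ξ) := by
    rw [Presieve.ofArrows_pUnit]
    exact hcov
  have : (F.obj ξ).IsQuasicoherent := hF' ξ
  suffices hc : IsCompat ((Desc.modPF.{u}.toDescentData f).obj (F.obj ξ)) ⊤ (fun _ => s) by
    obtain ⟨n, hn⟩ := exists_pullSec_eq (f := f) hf (F.obj ξ) (U := ⊤) hc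
    exact ⟨n, (mapTop_eq_cmp F φ hgdef.symm n).trans ((congrArg _ (hn ⟨⟩)).trans hs)⟩
  intro i j T g₁ g₂ h h₁ h₂
  obtain ⟨ζ, ψ₁, hb, hm₁⟩ := exists_lift' hp (x := ξ')
    (V := Over.mk (g₁ ≫ (𝒳.p.obj ξ').hom)) (Over.homMk g₁ rfl)
  have hzT : StMod.sch 𝒳 ζ = T := congrArg Comma.left hb
  obtain ⟨obT, rfl⟩ : ∃ o, o = 𝒳.p.obj ζ := ⟨_, rfl⟩
  subst hzT
  have e₁ : StMod.bmap 𝒳 ψ₁ = g₁ := by
    show (𝒳.p.map ψ₁).left = g₁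
    rw [hm₁]
    simp [Over.comp_left, Over.eqToHom_left]
  have hcomm : g₁ ≫ g = g₂ ≫ g := h
  have hw : g₂ ≫ (𝒳.p.obj ξ').hom = (𝒳.p.obj ζ).hom := by
    have w1 : g ≫ (𝒳.p.obj ξ).hom = (𝒳.p.obj ξ').hom := Over.w (𝒳.p.map φ)
    have w2 : g₁ ≫ (𝒳.p.obj ξ').hom = (𝒳.p.obj ζ).hom := e₁ ▸ Over.w (𝒳.p.map ψ₁)
    rw [← w2, ← w1, ← Category.assoc, ← Category.assoc, ← hcomm]
  obtain ⟨ψ₂, ⟨hm₂, hψ⟩, -⟩ := factor_unique hp φ (ψ₁ ≫ φ) (Over.homMk g₂ hw) (by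
    ext1
    rw [Functor.map_comp, Over.comp_left, Over.comp_left]
    show g₂ ≫ g = StMod.bmap 𝒳 ψ₁ ≫ g
    rw [e₁, hcomm])
  have e₂ : StMod.bmap 𝒳 ψ₂ = g₂ := by
    show (𝒳.p.map ψ₂).left = g₂
    rw [hm₂]
    rfl
  have hχ : StMod.bmap 𝒳 (ψ₁ ≫ φ) = g₁ ≫ g := by rw [StMod.bmap_comp, e₁]
  refine (flat_bijective (N := F.obj ξ) g g₂ (g₁ ≫ g) hcomm.symm).1 ?_
  refine (flat_dEl_ofObj (f := f) (F.obj ξ) g₁ g₂ h (g₁ ≫ g) rfl _).trans ?_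
  refine (cmp_app_bijective F hF (ψ₁ ≫ φ) hχ ⊤).1 ?_
  refine (cmp_flat F ψ₁ φ e₁ hgdef.symm rfl hχ _).trans ?_
  have hχ' : StMod.bmap 𝒳 (ψ₂ ≫ φ) = g₁ ≫ g := by rw [hψ, hχ]
  have key : ∀ (χ : ζ ⟶ ξ) (hc : StMod.bmap 𝒳 χ = g₁ ≫ g), χ = ψ₁ ≫ φ → ∀ z,
      (cmp F χ hc).app ⊤ z = (cmp F (ψ₁ ≫ φ) hχ).app ⊤ z := by
    rintro χ hc rfl z; rfl
  refine Eq.trans ?_ ((cmp_flat F ψ₂ φ e₂ hgdef.symm hcomm.symm hχ' _).symm.trans (key _ hχ' hψ _))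
  have hsimp : ∀ (ψ : ζ ⟶ ξ') (g' : StMod.sch 𝒳 ζ ⟶ StMod.sch 𝒳 ξ') (he : StMod.bmap 𝒳 ψ = g')
      (h' : ⊤ ≤ g' ⁻¹ᵁ g ⁻¹ᵁ ⊤),
      (cmp F ψ he).app ⊤ (elMap (cmp F φ hgdef.symm) g' (el g' h' s)) = F.mapTop ψ x := by
    intro ψ g' he h'
    rw [elMap_el, hs, mapTop_eq_cmp F ψ he]
    exact congrArg _ (res_self _ _)
  rw [hsimp ψ₁ g₁ e₁ h₁, hsimp ψ₂ g₂ e₂ h₂]
  exact hx ζ ψ₁ ψ₂ hψ.symm

end Groth.StModSect
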