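import Groth.Agent.StMod.Sect.Descent
import Groth.Agent.StkBase.Psh
import Groth.Prelude.Def_StMod2

/-!
# Sections of a pushforward from an atlas of the pairs (helper34)

An atlas of the pairs `(ξ, π ξ ⟶ η)` presents the sections of the pushforward over `η` as the equalizer of
two restriction maps between sections over two objects.
-/

set_option autoImplicit false
set_option backward.isDefEq.respectTransparency false
set_option backward.isDefEq.respectTransparency.types false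

universe w v u

open CategoryTheory CategoryTheory.Limits AlgebraicGeometry Opposite TopologicalSpace

noncomputable section

namespace Groth.StModSect

open Groth.StkBase

variable {S : Scheme.{u}} {𝒳 : BasedCategory.{v, w} (Over S)}

/-- A morphism of `𝒳` lying over an fppf covering. -/
structure IsCovHom {ξ' ξ : 𝒳.obj} (φ : ξ' ⟶ ξ) : Prop where
  flat : Flat (StMod.bmap 𝒳 φ)
  surj : Surjective (StMod.bmap 𝒳 φ)
  lfp : LocallyOfFinitePresentation (StMod.bmap 𝒳 φ)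

theorem IsCovHom.singleton_mem {ξ' ξ : 𝒳.obj} {φ : ξ' ⟶ ξ} (h : IsCovHom φ) :
    Presieve.singleton (StMod.bmap 𝒳 φ) ∈ Scheme.fpqcPrecoverage (StMod.sch 𝒳 ξ) := by
  have := h.flat; have := h.surj; have := h.lfp
  exact Scheme.fppfPrecoverage_le_fpqcPrecoverage _ (Scheme.Hom.singleton_mem_fppfPrecoverage _)

theorem IsCovHom.injective {F : StMod.Mod 𝒳} (hF : F.IsCartesian) {ξ' ξ : 𝒳.obj} {φ : ξ' ⟶ ξ}
    (h : IsCovHom φ) : Function.Injective (F.mapTop φ) :=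
  have := h.flat
  have := h.surj
  mapTop_injective hF φ

theorem isCovHom_id (ξ : 𝒳.obj) : IsCovHom (𝟙 ξ) := by
  constructor <;> (rw [StMod.bmap_id]; infer_instance)

theorem IsCovHom.comp {ξ'' ξ' ξ : 𝒳.obj} {ψ : ξ'' ⟶ ξ'} {φ : ξ' ⟶ ξ} (h : IsCovHom ψ) (h' : IsCovHom φ) :
    IsCovHom (ψ ≫ φ) := by
  have := h.flat; have := h.surj; have := h.lfp
  have := h'.flat; have := h'.surj; have := h'.lfp
  constructor <;> (rw [StMod.bmap_comp]; infer_instance)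

/-- A covering can be pulled back along any morphism. -/
theorem exists_pullback_cover (hp : FibCat.IsFibGrpd 𝒳.p) {ζ ξ' ξ : 𝒳.obj} {φ : ζ ⟶ ξ} (hφ : IsCovHom φ)
    (ω : ξ' ⟶ ξ) : ∃ (ζ' : 𝒳.obj) (a : ζ' ⟶ ξ') (b : ζ' ⟶ ζ), IsCovHom a ∧ a ≫ ω = b ≫ φ := by
  have := hφ.flat; have := hφ.surj; have := hφ.lfp
  let fst : pullback (StMod.bmap 𝒳 ω) (StMod.bmap 𝒳 φ) ⟶ StMod.sch 𝒳 ξ' := pullback.fst _ _
  let snd : pullback (StMod.bmap 𝒳 ω) (StMod.bmap 𝒳 φ) ⟶ StMod.sch 𝒳 ζ := pullback.snd _ _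
  let V : Over S := Over.mk (fst ≫ (𝒳.p.obj ξ').hom)
  obtain ⟨ζ', a, hb, ha⟩ := exists_lift' hp (x := ξ') (V := V) (Over.homMk fst rfl)
  have hw : snd ≫ (𝒳.p.obj ζ).hom = V.hom := by
    show snd ≫ _ = fst ≫ _
    have w1 : StMod.bmap 𝒳 ω ≫ (𝒳.p.obj ξ).hom = (𝒳.p.obj ξ').hom := Over.w (𝒳.p.map ω)
    have w2 : StMod.bmap 𝒳 φ ≫ (𝒳.p.obj ξ).hom = (𝒳.p.obj ζ).hom := Over.w (𝒳.p.map φ)
    rw [← w1, ← w2, pullback.condition_assoc]
  obtain ⟨b, ⟨-, hb'⟩, -⟩ := factor_unique hp φ (a ≫ ω) (eqToHom hb ≫ Over.homMk snd hw) (by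
    rw [Functor.map_comp, ha, Category.assoc, Category.assoc]
    congr 1
    ext1
    exact pullback.condition.symm)
  refine ⟨ζ', a, b, ?_, hb'.symm⟩
  have hbm : StMod.bmap 𝒳 a = (eqToHom hb).left ≫ fst := by
    show (𝒳.p.map a).left = _
    rw [ha]; rfl
  have : IsIso (eqToHom hb).left := inferInstanceAs (IsIso ((Over.forget S).map (eqToHom hb)))
  constructor <;> (rw [hbm]; infer_instance)

variable {𝒴 : BasedCategory.{v, w} (Over S)}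

variable {M : AlgSp.Sp S}

/-- Morphisms of `ofSp M` out of the image of an object are determined by their morphism of schemes. -/
theorem arrow_ext (π : 𝒳 ⥤ᵇ AlgSt.ofSp M) {ξ : 𝒳.obj} {η : (AlgSt.ofSp M).obj} {α β : π.obj ξ ⟶ η}
    (h : (StMod.baseOver π ξ α).left = (StMod.baseOver π ξ β).left) : α = β :=
  elt_hom_ext_p ((cancel_epi (eqToHom (π.w_obj ξ).symm)).1 (Over.OverMorphism.ext h))

/-- An atlas of the pairs `(ξ, π ξ ⟶ η)`. -/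
structure Atlas (π : 𝒳 ⥤ᵇ AlgSt.ofSp M) (η : (AlgSt.ofSp M).obj) where
  /-- the object of the atlas -/
  a : 𝒳.obj
  /-- its structure map -/
  α : π.obj a ⟶ η
  affine : IsAffine (StMod.sch 𝒳 a)
  cover : ∀ ξ (β : π.obj ξ ⟶ η), ∃ (ζ : 𝒳.obj) (φ : ζ ⟶ ξ) (ψ : ζ ⟶ a),
    IsCovHom φ ∧ π.map φ ≫ β = π.map ψ ≫ α
  /-- the object of relations -/
  b : 𝒳.obj
  /-- first projection -/
  p₁ : b ⟶ a
  /-- second projection -/
  p₂ : b ⟶ a
  affine' : IsAffine (StMod.sch 𝒳 b)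
  comm : π.map p₁ ≫ α = π.map p₂ ≫ α
  rel : ∀ ζ (ψ₁ ψ₂ : ζ ⟶ a), π.map ψ₁ ≫ α = π.map ψ₂ ≫ α →
    ∃ (ζ' : 𝒳.obj) (φ : ζ' ⟶ ζ) (χ : ζ' ⟶ b), IsCovHom φ ∧ χ ≫ p₁ = φ ≫ ψ₁ ∧ χ ≫ p₂ = φ ≫ ψ₂

namespace Atlas

variable {π : 𝒳 ⥤ᵇ AlgSt.ofSp M} {η : (AlgSt.ofSp M).obj} (A : Atlas π η) {F : StMod.Mod 𝒳}

/-- Evaluation of a compatible family on the atlas. -/
def ev (s : F.RelSect π η) : Γ(F.obj A.a, ⊤) := s.1 A.a A.α

theorem ev_compat (s : F.RelSect π η) : F.mapTop A.p₁ (A.ev s) = F.mapTop A.p₂ (A.ev s) := by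
  rw [ev, s.2 A.p₁ A.α, s.2 A.p₂ A.α, A.comm]

theorem ev_injective (hF : F.IsCartesian) : Function.Injective (A.ev (F := F)) := by
  intro s t h
  refine StMod.Mod.RelSect.ext _ _ _ fun ξ β => ?_
  obtain ⟨ζ, φ, ψ, hφ, e⟩ := A.cover ξ β
  refine hφ.injective hF ?_
  rw [s.2 φ β, t.2 φ β, e, ← s.2 ψ A.α, ← t.2 ψ A.α]
  exact congrArg _ h

theorem mapTop_agree (hF : F.IsCartesian) {x : Γ(F.obj A.a, ⊤)} (hx : F.mapTop A.p₁ x = F.mapTop A.p₂ x)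
    {ζ : 𝒳.obj} {ψ₁ ψ₂ : ζ ⟶ A.a} (h : π.map ψ₁ ≫ A.α = π.map ψ₂ ≫ A.α) :
    F.mapTop ψ₁ x = F.mapTop ψ₂ x := by
  obtain ⟨ζ', φ, χ, hφ, e₁, e₂⟩ := A.rel ζ ψ₁ ψ₂ h
  refine hφ.injective hF ?_
  rw [← F.mapTop_comp, ← F.mapTop_comp, ← e₁, ← e₂, F.mapTop_comp, F.mapTop_comp, hx]

theorem exists_ev_eq (hp : FibCat.IsFibGrpd 𝒳.p) (hF : F.IsCartesian) (hF' : F.IsLocQCoh)
    {x : Γ(F.obj A.a, ⊤)} (hx : F.mapTop A.p₁ x = F.mapTop A.p₂ x) : ∃ s, A.ev s = x := by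
  choose ζ φ ψ hφ e using A.cover
  have hloc : ∀ ξ β, ∃ y : Γ(F.obj ξ, ⊤), F.mapTop (φ ξ β) y = F.mapTop (ψ ξ β) x := fun ξ β => by
    refine exists_mapTop_eq hp hF hF' (φ ξ β) (hφ ξ β).singleton_mem _ fun ζ' ψ₁ ψ₂ h => ?_
    rw [← F.mapTop_comp, ← F.mapTop_comp]
    refine A.mapTop_agree hF hx ?_
    rw [Functor.map_comp, Category.assoc, ← e, ← Category.assoc, ← Functor.map_comp, h, Functor.map_comp,
      Category.assoc, e, ← Category.assoc, ← Functor.map_comp]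
  choose y hy using hloc
  have hnat : ∀ ⦃ξ' ξ : 𝒳.obj⦄ (ω : ξ' ⟶ ξ) (β : π.obj ξ ⟶ η),
      F.mapTop ω (y ξ β) = y ξ' (π.map ω ≫ β) := by
    intro ξ' ξ ω β
    obtain ⟨z, a, b, ha, hab⟩ := exists_pullback_cover hp (hφ ξ β) (φ ξ' (π.map ω ≫ β) ≫ ω)
    refine (hφ ξ' (π.map ω ≫ β)).injective hF (ha.injective hF ?_)
    rw [← F.mapTop_comp (φ ξ' (π.map ω ≫ β)) ω, ← F.mapTop_comp a, hab, F.mapTop_comp, hy, hy,
      ← F.mapTop_comp, ← F.mapTop_comp]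
    refine A.mapTop_agree hF hx ?_
    rw [Functor.map_comp, Functor.map_comp, Category.assoc, Category.assoc, ← e, ← e, ← Category.assoc,
      ← Category.assoc, ← Functor.map_comp, ← hab, ← Category.assoc, ← Functor.map_comp, ← Category.assoc,
      ← Functor.map_comp, Category.assoc]
  refine ⟨⟨y, hnat⟩, ?_⟩
  show y A.a A.α = x
  refine (hφ A.a A.α).injective hF ?_
  rw [hy]
  exact A.mapTop_agree hF hx (e _ _).symm

end Atlas

end Groth.StModSect
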