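import Groth.Agent.StMod.Sect.Atlas
import Groth.Agent.CurveDiv.FlatH0

/-!
# Flat base change of sections of a pushforward (helper34)

For an atlas of the pairs over an affine base and a flat morphism of affine bases, the sections of the
pushforward over the new base are obtained by tensoring.
-/

set_option autoImplicit false
set_option backward.isDefEq.respectTransparency false
set_option backward.isDefEq.respectTransparency.types false

universe w v u

open CategoryTheory CategoryTheory.Limits AlgebraicGeometry Opposite TopologicalSpace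
open scoped TensorProduct

noncomputable section

namespace Groth.StModSect

open Groth.StkBase
open Groth.CohBase.FlatBC (secMod psec psec_apply)
open Groth.QCohMod (res res_self sectionsAlg)
open Groth.PicAux (pullSec)

section Scheme

variable {T T' : Scheme.{u}}

/-- Global functions on `T'` as an algebra over those on `T`. -/
@[reducible] def algTop (g : T' ⟶ T) : Algebra Γ(T, ⊤) Γ(T', ⊤) :=
  sectionsAlg g (le_refl (⊤ : T'.Opens) : (⊤ : T'.Opens) ≤ g ⁻¹ᵁ ⊤)

theorem algTop_apply (g : T' ⟶ T) (c : Γ(T, ⊤)) :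
    letI := algTop g
    algebraMap Γ(T, ⊤) Γ(T', ⊤) c = g.appTop c :=
  congr($(Scheme.Hom.appLE_eq_app g (U := ⊤)) c)

/-- Global sections as a module over the functions on the base. -/
abbrev topMod {X : Scheme.{u}} (f : X ⟶ T) (M : X.Modules) : ModuleCat.{u} Γ(T, ⊤) :=
  secMod f M (le_refl (f ⁻¹ᵁ (⊤ : T.Opens)))

theorem smul_secMod_top {X : Scheme.{u}} (f : X ⟶ T) (M : X.Modules) (c : Γ(T, ⊤))
    (m : Γ(M, f ⁻¹ᵁ ⊤)) :
    (c • (show secMod f M (le_refl (f ⁻¹ᵁ (⊤ : T.Opens))) from m)) =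
      (show secMod f M (le_refl (f ⁻¹ᵁ (⊤ : T.Opens))) from
        (f.appTop c • (show Γ(M, ⊤) from m))) :=
  congrArg (fun r : Γ(X, f ⁻¹ᵁ ⊤) => (show secMod f M (le_refl (f ⁻¹ᵁ (⊤ : T.Opens))) from r • m))
    (congr($(Scheme.Hom.appLE_eq_app f (U := ⊤)) c))

end Scheme

variable {S : Scheme.{u}} {𝒳 : BasedCategory.{v, w} (Over S)} {M : AlgSp.Sp S}
variable {π : 𝒳 ⥤ᵇ AlgSt.ofSp M} {η η' : (AlgSt.ofSp M).obj} (k : η' ⟶ η) (F : StMod.Mod 𝒳)

/-- The morphism of schemes under a morphism of bases. -/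
abbrev baseMor : StMod.sch (AlgSt.ofSp M) η' ⟶ StMod.sch (AlgSt.ofSp M) η := StMod.bmap (AlgSt.ofSp M) k

theorem baseOver_comp_left {ξ : 𝒳.obj} (β : π.obj ξ ⟶ η') :
    (StMod.baseOver π ξ (β ≫ k)).left = (StMod.baseOver π ξ β).left ≫ baseMor k := by
  rw [StMod.baseOver_comp]
  rfl

/-- Restriction of sections of the pushforward along a morphism of bases. -/
def relRes : F.RelSect π η →+ F.RelSect π η' where
  toFun s := ⟨fun ξ β => s.1 ξ (β ≫ k), fun ξ' _ φ β =>
    (s.2 φ (β ≫ k)).trans (congrArg (s.1 ξ') (Category.assoc _ _ _).symm)⟩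
  map_zero' := rfl
  map_add' _ _ := rfl

@[simp] theorem relRes_val (s : F.RelSect π η) (ξ : 𝒳.obj) (β : π.obj ξ ⟶ η') :
    (relRes k F s).1 ξ β = s.1 ξ (β ≫ k) := rfl

theorem relRes_smul (c : Γ(StMod.sch (AlgSt.ofSp M) η, ⊤)) (s : F.RelSect π η) :
    relRes k F (c • s) = (baseMor k).appTop c • relRes k F s := by
  refine StMod.Mod.RelSect.ext _ _ _ fun ξ β => ?_
  show (StMod.baseOver π ξ (β ≫ k)).left.appTop c • _ = (StMod.baseOver π ξ β).left.appTop _ • _
  rw [baseOver_comp_left, Scheme.Hom.comp_appTop]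
  rfl

theorem relRes_relSectMap {G : StMod.Mod 𝒳} (u : F ⟶ G) (s : F.RelSect π η) :
    relRes k G (StMod.Mod.relSectMap π u η s) = StMod.Mod.relSectMap π u η' (relRes k F s) :=
  rfl

/-- The base change map of sections of pushforwards. -/
def bcHom :
    letI := algTop (baseMor k)
    Γ(StMod.sch (AlgSt.ofSp M) η', ⊤) ⊗[Γ(StMod.sch (AlgSt.ofSp M) η, ⊤)] F.RelSect π η →+
      F.RelSect π η' :=
  letI := algTop (baseMor k)
  TensorProduct.liftAddHom
    { toFun := fun c =>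
        { toFun := fun s => c • relRes k F s
          map_zero' := by rw [map_zero, smul_zero]
          map_add' := fun a b => by rw [map_add, smul_add] }
      map_zero' := AddMonoidHom.ext fun s => zero_smul _ _
      map_add' := fun a b => AddMonoidHom.ext fun s => add_smul _ _ _ }
    fun r c s => by
      show (r • c) • relRes k F s = c • relRes k F (r • s)
      rw [relRes_smul, ← mul_smul, Algebra.smul_def, algTop_apply, mul_comm]

theorem bcHom_tmul (c : Γ(StMod.sch (AlgSt.ofSp M) η', ⊤)) (s : F.RelSect π η) :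
    letI := algTop (baseMor k)
    bcHom k F (c ⊗ₜ s) = c • relRes k F s :=
  rfl

variable {F}

/-- A morphism to `η'` lifting a morphism to `η`. -/
theorem exists_arrow {ξ : 𝒳.obj} (β : π.obj ξ ⟶ η)
    (g : StMod.sch 𝒳 ξ ⟶ StMod.sch (AlgSt.ofSp M) η')
    (hg : g ≫ baseMor k = (StMod.baseOver π ξ β).left) :
    ∃ β' : π.obj ξ ⟶ η', (StMod.baseOver π ξ β').left = g ∧ β' ≫ k = β := by
  have hw : g ≫ ((AlgSt.ofSp M).p.obj η').hom = (𝒳.p.obj ξ).hom := by
    have w1 : baseMor k ≫ ((AlgSt.ofSp M).p.obj η).hom = ((AlgSt.ofSp M).p.obj η').hom :=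
      Over.w ((AlgSt.ofSp M).p.map k)
    rw [← w1, ← Category.assoc, hg]
    exact Over.w (StMod.baseOver π ξ β)
  let g' : 𝒳.p.obj ξ ⟶ (AlgSt.ofSp M).p.obj η' := Over.homMk g hw
  obtain ⟨β', ⟨hm, hc⟩, -⟩ := factor_unique (Stk.isFibGrpd_ofPsh M.obj) k β
    (eqToHom (π.w_obj ξ) ≫ g') (by
      rw [Category.assoc]
      have : g' ≫ (AlgSt.ofSp M).p.map k = StMod.baseOver π ξ β := Over.OverMorphism.ext hg
      rw [this, StMod.baseOver, eqToHom_trans_assoc, eqToHom_refl, Category.id_comp])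
  refine ⟨β', ?_, hc⟩
  show (eqToHom (π.w_obj ξ).symm ≫ (AlgSt.ofSp M).p.map β').left = g
  rw [hm, eqToHom_trans_assoc, eqToHom_refl, Category.id_comp]
  rfl

/-- The pullback of an affine object of the pairs along a morphism of bases. -/
theorem exists_pullback_pair (hp : FibCat.IsFibGrpd 𝒳.p) {a : 𝒳.obj} (α : π.obj a ⟶ η) :
    ∃ (a' : 𝒳.obj) (α' : π.obj a' ⟶ η') (q : a' ⟶ a), α' ≫ k = π.map q ≫ α ∧
      IsPullback (StMod.bmap 𝒳 q) (StMod.baseOver π a' α').left (StMod.baseOver π a α).left (baseMor k) := by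
  let f := (StMod.baseOver π a α).left
  let fst : pullback f (baseMor k) ⟶ StMod.sch 𝒳 a := pullback.fst _ _
  let snd : pullback f (baseMor k) ⟶ StMod.sch (AlgSt.ofSp M) η' := pullback.snd _ _
  obtain ⟨a', q, hb, hq⟩ := exists_lift' hp (x := a)
    (V := Over.mk (fst ≫ (𝒳.p.obj a).hom)) (Over.homMk fst rfl)
  let e : StMod.sch 𝒳 a' ⟶ pullback f (baseMor k) := (eqToHom hb).left
  have : IsIso e := inferInstanceAs (IsIso ((Over.forget S).map (eqToHom hb)))
  have hqb : StMod.bmap 𝒳 q = e ≫ fst := by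
    show (𝒳.p.map q).left = _
    rw [hq]; rfl
  obtain ⟨α', hα', hc⟩ := exists_arrow (ξ := a') k (π.map q ≫ α) (e ≫ snd) (by
    rw [← StMod.bmap_comp_baseOver_left, hqb, Category.assoc, Category.assoc]
    exact congrArg (e ≫ ·) pullback.condition.symm)
  refine ⟨a', α', q, hc, ?_⟩
  rw [hα', hqb]
  exact (IsPullback.of_hasPullback f (baseMor k)).of_iso (asIso e).symm (Iso.refl _) (Iso.refl _)
    (Iso.refl _) (by simp [fst]) (by simp [snd]) (by simp [f]) (by simp)

/-- The base change of the sections over an affine object along a cartesian square. -/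
theorem exists_equiv_of_isPullback (hF : F.IsCartesian) (hF' : F.IsLocQCoh) {c' c : 𝒳.obj} (q : c' ⟶ c)
    {f : StMod.sch 𝒳 c ⟶ StMod.sch (AlgSt.ofSp M) η} {f' : StMod.sch 𝒳 c' ⟶ StMod.sch (AlgSt.ofSp M) η'}
    (sq : IsPullback (StMod.bmap 𝒳 q) f' f (baseMor k))
    [IsAffine (StMod.sch (AlgSt.ofSp M) η)] [IsAffine (StMod.sch (AlgSt.ofSp M) η')]
    [IsAffine (StMod.sch 𝒳 c)] [Flat (baseMor k)] :
    letI := algTop (baseMor k)
    ∃ Φ : Γ(StMod.sch (AlgSt.ofSp M) η', ⊤) ⊗[Γ(StMod.sch (AlgSt.ofSp M) η, ⊤)]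
        secMod f (F.obj c) (le_refl (f ⁻¹ᵁ ⊤)) →+ Γ(F.obj c', ⊤),
      Function.Bijective Φ ∧
        ∀ b m, Φ (b ⊗ₜ m) = f'.appTop b • F.mapTop q (show Γ(F.obj c, ⊤) from m) := by
  let := algTop (baseMor k)
  have : (F.obj c).IsQuasicoherent := hF' c
  obtain ⟨Φ, hΦ⟩ := Groth.CurveDiv.FlatH0.exists_baseChange_equiv sq (F.obj c)
    (isAffineOpen_top (StMod.sch (AlgSt.ofSp M) η)) (isAffineOpen_top (StMod.sch (AlgSt.ofSp M) η'))
    (le_refl (⊤ : (StMod.sch (AlgSt.ofSp M) η').Opens)) (le_refl _)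
  let C := cmp F q (g := StMod.bmap 𝒳 q) rfl
  refine ⟨(C.app ⊤).hom.comp Φ.toAddMonoidHom, (cmp_app_bijective F hF q rfl ⊤).comp Φ.bijective,
    fun b m => ?_⟩
  show C.app ⊤ (Φ (b ⊗ₜ m)) = _
  rw [hΦ, mapTop_eq_cmp F q rfl]
  refine (Scheme.Modules.Hom.app_smul C (f'.app ⊤ b) _).trans ?_
  rw [psec_apply]
  exact congrArg (fun z => f'.appTop b • C.app ⊤ z) (res_self _ _)

variable (F) in
/-- Evaluation on an atlas is linear over the functions on the base. -/
def evL (A : Atlas π η) : F.RelSect π η →ₗ[Γ(StMod.sch (AlgSt.ofSp M) η, ⊤)]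
    topMod (StMod.baseOver π A.a A.α).left (F.obj A.a) where
  toFun s := A.ev s
  map_add' _ _ := rfl
  map_smul' c s := (smul_secMod_top (StMod.baseOver π A.a A.α).left (F.obj A.a) c (A.ev s)).symm

variable (F) in
/-- The difference of the two restrictions to the relations is linear over the functions on the base. -/
def diffL (A : Atlas π η) :
    topMod (StMod.baseOver π A.a A.α).left (F.obj A.a) →ₗ[Γ(StMod.sch (AlgSt.ofSp M) η, ⊤)]
      topMod (StMod.baseOver π A.b (π.map A.p₁ ≫ A.α)).left (F.obj A.b) where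
  toFun x := F.mapTop A.p₁ (show Γ(F.obj A.a, ⊤) from x) - F.mapTop A.p₂ (show Γ(F.obj A.a, ⊤) from x)
  map_add' x y := by
    show F.mapTop A.p₁ ((show Γ(F.obj A.a, ⊤) from x) + (show Γ(F.obj A.a, ⊤) from y)) -
      F.mapTop A.p₂ ((show Γ(F.obj A.a, ⊤) from x) + (show Γ(F.obj A.a, ⊤) from y)) = _
    rw [F.mapTop_add, F.mapTop_add]
    abel
  map_smul' c x := by
    rw [RingHom.id_apply]
    refine Eq.trans ?_ (smul_secMod_top (StMod.baseOver π A.b (π.map A.p₁ ≫ A.α)).left (F.obj A.b) c _).symm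
    show F.mapTop A.p₁ (show Γ(F.obj A.a, ⊤) from (c • x)) - F.mapTop A.p₂ (show Γ(F.obj A.a, ⊤) from (c • x)) = _
    rw [smul_secMod_top (StMod.baseOver π A.a A.α).left (F.obj A.a) c x, F.mapTop_smul, F.mapTop_smul, smul_sub]
    have h₁ : (StMod.bmap 𝒳 A.p₁).appTop ((StMod.baseOver π A.a A.α).left.appTop c) =
        (StMod.baseOver π A.b (π.map A.p₁ ≫ A.α)).left.appTop c := by
      rw [← StMod.bmap_comp_baseOver_left, Scheme.Hom.comp_appTop]; rfl
    have h₂ : (StMod.bmap 𝒳 A.p₂).appTop ((StMod.baseOver π A.a A.α).left.appTop c) =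
        (StMod.baseOver π A.b (π.map A.p₁ ≫ A.α)).left.appTop c := by
      rw [A.comm, ← StMod.bmap_comp_baseOver_left, Scheme.Hom.comp_appTop]; rfl
    rw [h₁, h₂]

/-- Sections of a pushforward commute with flat base change between affine bases. -/
theorem bcHom_bijective (hp : FibCat.IsFibGrpd 𝒳.p) (A : Atlas π η)
    [IsAffine (StMod.sch (AlgSt.ofSp M) η)] [IsAffine (StMod.sch (AlgSt.ofSp M) η')]
    [Flat (baseMor k)] (hF : F.IsCartesian) (hF' : F.IsLocQCoh) :
    Function.Bijective (bcHom (π := π) k F) := by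
  let := algTop (baseMor k)
  have : Module.Flat Γ(StMod.sch (AlgSt.ofSp M) η, ⊤) Γ(StMod.sch (AlgSt.ofSp M) η', ⊤) := by
    have h := (baseMor k).flat_appTop
    rw [← RingHom.flat_algebraMap_iff]
    have e : algebraMap Γ(StMod.sch (AlgSt.ofSp M) η, ⊤) Γ(StMod.sch (AlgSt.ofSp M) η', ⊤) =
        (baseMor k).appTop.hom := RingHom.ext (algTop_apply (baseMor k))
    rw [e]
    exact h
  have := A.affine
  have := A.affine'
  obtain ⟨a', α', qa, hαk, sqa⟩ := exists_pullback_pair k hp A.α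
  obtain ⟨b', α'', qb, hβk, sqb⟩ := exists_pullback_pair k hp (π.map A.p₁ ≫ A.α)
  obtain ⟨Φa, hΦa, hΦa'⟩ := exists_equiv_of_isPullback k hF hF' qa sqa
  obtain ⟨Φb, hΦb, hΦb'⟩ := exists_equiv_of_isPullback k hF hF' qb sqb
  -- the two projections between the pulled back objects
  have hlift : ∀ p : A.b ⟶ A.a, π.map p ≫ A.α = π.map A.p₁ ≫ A.α →
      ∃ p' : b' ⟶ a', p' ≫ qa = qb ≫ p ∧ π.map p' ≫ α' = α'' := by
    intro p hp'
    have hcond : (StMod.bmap 𝒳 qb ≫ StMod.bmap 𝒳 p) ≫ (StMod.baseOver π A.a A.α).left =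
        (StMod.baseOver π b' α'').left ≫ baseMor k := by
      rw [Category.assoc, StMod.bmap_comp_baseOver_left, hp', sqb.w]
    let g := sqa.lift _ _ hcond
    have hw : g ≫ (𝒳.p.obj a').hom = (𝒳.p.obj b').hom := by
      rw [← Over.w (StMod.baseOver π a' α'), ← Over.w (StMod.baseOver π b' α''), ← Category.assoc,
        sqa.lift_snd]
    obtain ⟨p', ⟨hm, hc⟩, -⟩ := factor_unique hp qa (qb ≫ p) (Over.homMk g hw) (by
      ext1
      rw [Functor.map_comp, Over.comp_left, Over.comp_left]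
      exact sqa.lift_fst _ _ hcond)
    refine ⟨p', hc, arrow_ext π ?_⟩
    rw [← StMod.bmap_comp_baseOver_left]
    show (𝒳.p.map p').left ≫ _ = _
    rw [hm]
    exact sqa.lift_snd _ _ hcond
  obtain ⟨p₁', hq₁, hb₁⟩ := hlift A.p₁ rfl
  obtain ⟨p₂', hq₂, hb₂⟩ := hlift A.p₂ A.comm.symm
  -- sections over the new base inject into sections over the pulled back atlas
  have hinj : ∀ s t : F.RelSect π η', s.1 a' α' = t.1 a' α' → s = t := by
    intro s t h
    refine StMod.Mod.RelSect.ext _ _ _ fun ξ β => ?_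
    obtain ⟨ζ, φ, ψ, hφ, e⟩ := A.cover ξ (β ≫ k)
    have hcond : StMod.bmap 𝒳 ψ ≫ (StMod.baseOver π A.a A.α).left =
        (StMod.baseOver π ζ (π.map φ ≫ β)).left ≫ baseMor k := by
      rw [StMod.bmap_comp_baseOver_left, ← e, ← baseOver_comp_left, Category.assoc]
    let g := sqa.lift _ _ hcond
    have hw : g ≫ (𝒳.p.obj a').hom = (𝒳.p.obj ζ).hom := by
      rw [← Over.w (StMod.baseOver π a' α'), ← Over.w (StMod.baseOver π ζ (π.map φ ≫ β)), ← Category.assoc,
        sqa.lift_snd]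
    obtain ⟨ψ', ⟨hm, -⟩, -⟩ := factor_unique hp qa ψ (Over.homMk g hw) (by
      ext1
      exact sqa.lift_fst _ _ hcond)
    have hψ' : π.map ψ' ≫ α' = π.map φ ≫ β := arrow_ext π (by
      rw [← StMod.bmap_comp_baseOver_left]
      show (𝒳.p.map ψ').left ≫ _ = _
      rw [hm]
      exact sqa.lift_snd _ _ hcond)
    refine hφ.injective hF ?_
    rw [s.2 φ β, t.2 φ β, ← hψ', ← s.2 ψ' α', ← t.2 ψ' α', h]
  have hsmul : ∀ (c : Γ(StMod.sch (AlgSt.ofSp M) η', ⊤)) (p' : b' ⟶ a') (x : Γ(F.obj a', ⊤)),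
      π.map p' ≫ α' = α'' →
      F.mapTop p' ((StMod.baseOver π a' α').left.appTop c • x) =
        (StMod.baseOver π b' α'').left.appTop c • F.mapTop p' x := by
    intro c p' x h
    rw [F.mapTop_smul, ← h, ← StMod.bmap_comp_baseOver_left, Scheme.Hom.comp_appTop]
    rfl
  have key₁ : ∀ z, Φa ((evL F A).lTensor _ z) = (bcHom k F z).1 a' α' := by
    intro z
    induction z using TensorProduct.induction_on with
    | zero => rw [map_zero, map_zero, map_zero]; rfl
    | add x y hx hy => rw [map_add, map_add, map_add, hx, hy]; rfl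
    | tmul c s =>
      rw [LinearMap.lTensor_tmul, hΦa', bcHom_tmul, StMod.Mod.RelSect.smul_val, relRes_val, hαk]
      exact congrArg _ (s.2 qa A.α)
  have key₂ : ∀ w, Φb ((diffL F A).lTensor _ w) = F.mapTop p₁' (Φa w) - F.mapTop p₂' (Φa w) := by
    intro w
    induction w using TensorProduct.induction_on with
    | zero => rw [map_zero, map_zero, map_zero, F.mapTop_zero, F.mapTop_zero, sub_self]
    | add x y hx hy =>
      rw [map_add, map_add, map_add, hx, hy, F.mapTop_add, F.mapTop_add]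
      abel
    | tmul c x =>
      rw [LinearMap.lTensor_tmul, hΦb', hΦa']
      refine Eq.trans ?_ (congrArg₂ (fun y z => y - z) (hsmul c p₁' _ hb₁) (hsmul c p₂' _ hb₂)).symm
      refine Eq.trans (congrArg _ ?_) (smul_sub _ _ _)
      rw [← F.mapTop_comp, ← F.mapTop_comp, hq₁, hq₂, F.mapTop_comp, F.mapTop_comp]
      exact map_sub ((F.map qb rfl).app ⊤).hom _ _
  have hker : Function.Exact (evL F A) (diffL F A) := by
    intro x
    refine ⟨fun hx => ?_, ?_⟩
    · obtain ⟨s, hs⟩ := A.exists_ev_eq hp hF hF' (x := (show Γ(F.obj A.a, ⊤) from x)) (sub_eq_zero.1 hx)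
      exact ⟨s, hs⟩
    · rintro ⟨s, rfl⟩
      exact sub_eq_zero.2 (A.ev_compat s)
  refine ⟨(injective_iff_map_eq_zero _).2 fun z hz => ?_, fun t => ?_⟩
  · refine Module.Flat.lTensor_preserves_injective_linearMap (evL F A) (A.ev_injective hF) ?_
    refine hΦa.1 ?_
    rw [key₁, hz, map_zero, map_zero]
    rfl
  · obtain ⟨w, hw⟩ := hΦa.2 (t.1 a' α')
    have hw0 : (diffL F A).lTensor _ w = 0 := hΦb.1 (by
      rw [key₂, hw, t.2 p₁' α', t.2 p₂' α', hb₁, hb₂, sub_self, map_zero])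
    obtain ⟨z, rfl⟩ := ((Module.Flat.lTensor_exact _ hker) w).1 hw0
    exact ⟨z, hinj _ _ ((key₁ z).symm.trans hw)⟩

end Groth.StModSect
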