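import Groth.Agent.StMod.Sect.Atlas
import Groth.Agent.AlgStBasic.StQc
import Groth.Agent.AlgStBasic.LocalLift

/-!
# Atlases of pairs for quasi-compact quasi-separated morphisms (helper34)
-/

set_option autoImplicit false
set_option backward.isDefEq.respectTransparency false
set_option backward.isDefEq.respectTransparency.types false

universe u

open CategoryTheory CategoryTheory.Limits AlgebraicGeometry Opposite TopologicalSpace

noncomputable section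

namespace Groth.StModSect

open Groth.StkBase Groth.AlgStBasic Groth.AlgSpBasic

variable {S : Scheme.{u}} {𝒳 𝒴 : AlgSt.Cat S}

theorem isIso_bmap {ξ' ξ : 𝒳.obj} (φ : ξ' ⟶ ξ) [IsIso φ] : IsIso (StMod.bmap 𝒳 φ) :=
  inferInstanceAs (IsIso ((Over.forget S).map (𝒳.p.map φ)))

theorem isCovHom_of_isIso {ξ' ξ : 𝒳.obj} (φ : ξ' ⟶ ξ) [IsIso φ] : IsCovHom φ := by
  have := isIso_bmap φ
  constructor <;> infer_instance

theorem isIso_eqToHom_left {A B : Over S} (h : A = B) : IsIso (eqToHom h).left :=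
  inferInstanceAs (IsIso ((Over.forget S).map (eqToHom h)))

theorem IsCovHom.map (f : 𝒳 ⥤ᵇ 𝒴) {ξ' ξ : 𝒳.obj} {φ : ξ' ⟶ ξ} (h : IsCovHom φ) :
    IsCovHom (f.map φ) := by
  have := h.flat; have := h.surj; have := h.lfp
  have h₁ := isIso_eqToHom_left (f.w_obj ξ')
  have h₂ := isIso_eqToHom_left (f.w_obj ξ).symm
  have e : StMod.bmap 𝒴 (f.map φ) =
      (eqToHom (f.w_obj ξ')).left ≫ StMod.bmap 𝒳 φ ≫ (eqToHom (f.w_obj ξ).symm).left := by
    show (𝒴.p.map (f.map φ)).left = _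
    rw [map_map f φ, Over.comp_left, Over.comp_left]
  constructor <;> (rw [e]; infer_instance)

/-- Objects lift along a smooth surjective functor from a scheme after a covering. -/
theorem exists_cover_of_chart (hY : FibCat.IsFibGrpd 𝒴.p) {U : Over S} {x : FibCat.overCat U ⥤ᵇ 𝒴}
    (hx : AlgSt.RepByAlgSpWith (AlgSp.LocP @Smooth) x)
    (hxs : AlgSt.RepByAlgSpWith AlgSp.IsSurjectiveMor x) (z : 𝒴.obj) :
    ∃ (ζ : 𝒴.obj) (φ : ζ ⟶ z) (_ : ζ ⟶ x.obj (idObj U)), IsCovHom φ := by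
  let y : FibCat.overCat (𝒴.p.obj z) ⥤ᵇ 𝒴 := overFunctor hY z rfl
  obtain ⟨i, hi⟩ := overFunctor_eval hY z (rfl : 𝒴.p.obj z = 𝒴.p.obj z)
  have h₁ : AlgSt.RepByAlgSpWith (AlgSp.LocP @Flat) x :=
    repWith_locP_of_smooth (fun _ _ f hf => by haveI := hf; infer_instance) hx
  have h₂ : AlgSt.RepByAlgSpWith (AlgSp.LocP @LocallyOfFinitePresentation) x :=
    repWith_locP_of_smooth (fun _ _ f hf => by haveI := hf; infer_instance) hx
  obtain ⟨F, e, he⟩ := repWith_repByAlgSp1 h₁ _ y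
  have q₁ := prop_of_repWith_fp stableBaseChange_locP h₁ y F e he
  have q₂ := prop_of_repWith_fp stableBaseChange_locP h₂ y F e he
  have q₃ := prop_of_repWith_fp stableBaseChange_surjective hxs y F e he
  obtain ⟨W, r, hr, hrs⟩ := F.property.atlas
  obtain ⟨c, hc⟩ := (AlgSp.yon S).map_surjective
    (r ≫ AlgSt.spMapOfOver (BasedFunctor.comp e (FibCat.fpFst y x)))
  have hid := AlgSp.repWith_id @Etale (𝒴.p.obj z)
  have hcf : Flat c.left := q₁ r (𝟙 _) c hr hid (by rw [Category.comp_id, hc])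
  have hcp : LocallyOfFinitePresentation c.left :=
    q₂ r (𝟙 _) c hr hid (by rw [Category.comp_id, hc])
  have hcs : Surjective c.left := ⟨fun v => by
    obtain ⟨w, hw⟩ := q₃ (AlgSp.Points.schemeHomeo (𝒴.p.obj z) v)
    obtain ⟨t, rfl⟩ := surjective_ofPt_of_repWith hrs w
    refine ⟨t, (AlgSp.Points.schemeHomeo (𝒴.p.obj z)).injective ?_⟩
    rw [← hw, ofPt_eq_map, ← AlgSp.Points.map_comp, ← hc]
    exact (AlgSp.Points.map_yon_map_apply _ _).symm⟩
  obtain ⟨z', ⟨α⟩⟩ := exists_lift_of_section y e r c hc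
  have := (isVert_isoApp α (idObj W)).isIso hY
  have := isIso_eqToHom_left (y.w_obj ((Over.map c).obj (idObj W)))
  have := isIso_eqToHom_left (y.w_obj (idObj (𝒴.p.obj z))).symm
  let m : (BasedFunctor.comp (AlgSt.overMap c) y).obj (idObj W) ⟶ y.obj (idObj (𝒴.p.obj z)) :=
    overPostMapHom c y
  have hm : IsCovHom m := by
    have e : StMod.bmap 𝒴 m = (eqToHom (y.w_obj ((Over.map c).obj (idObj W)))).left ≫ c.left ≫
        (eqToHom (y.w_obj (idObj (𝒴.p.obj z))).symm).left := by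
      show (𝒴.p.map (overPostMapHom c y)).left = _
      rw [overPostMapHom_p]
      rfl
    constructor <;> (rw [e]; infer_instance)
  exact ⟨(BasedFunctor.comp z' x).obj (idObj W), (isoApp α (idObj W)).hom ≫ m ≫ i.hom,
    x.map (toId (z'.obj (idObj W))),
    (isCovHom_of_isIso _).comp (hm.comp (isCovHom_of_isIso _))⟩

variable {M : AlgSp.Sp S} (π : 𝒳 ⥤ᵇ AlgSt.ofSp M) (η : (AlgSt.ofSp M).obj)

/-- The classifying functor of a base. -/
abbrev baseFun : FibCat.overCat η.base ⥤ᵇ AlgSt.ofSp M := sectionFunctor M.obj η.sec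

theorem map_baseOver_sec {ξ : 𝒳.obj} (α : π.obj ξ ⟶ η) :
    M.obj.map (StMod.baseOver π ξ α).op η.sec = M.obj.map (eqToHom (π.w_obj ξ).symm).op (π.obj ξ).sec := by
  refine Eq.trans ?_ (congrArg (M.obj.map (eqToHom (π.w_obj ξ).symm).op) α.map_sec)
  exact (map_op_comp M.obj _ _ _).symm

/-- The object of the fibre product attached to a pair. -/
def pairObj (ξ : 𝒳.obj) (α : π.obj ξ ⟶ η) : (FibCat.fp (baseFun η) π).obj :=
  fpMk (Over.mk (StMod.baseOver π ξ α)) ξ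
    { hom := eltHom (eqToHom (π.w_obj ξ).symm) (map_baseOver_sec π η α).symm
      inv := eltHom (eqToHom (π.w_obj ξ)) (by
        show M.obj.map _ (M.obj.map (StMod.baseOver π ξ α).op η.sec) = _
        rw [map_baseOver_sec π η α]
        refine (map_op_comp M.obj _ _ _).trans ?_
        exact map_op_id M.obj _ (eqToHom_trans _ _) _)
      hom_inv_id := elt_hom_ext_p (eqToHom_trans (π.w_obj ξ).symm (π.w_obj ξ))
      inv_hom_id := elt_hom_ext_p (eqToHom_trans (π.w_obj ξ) (π.w_obj ξ).symm) }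
    ⟨(π.w_obj ξ).symm, rfl⟩

/-- The morphism to the base of an object of the fibre product. -/
def arrowOf (z : (FibCat.fp (baseFun η) π).obj) : π.obj z.obj.snd ⟶ η :=
  z.obj.iso.inv ≫ eltHom (a := (baseFun η).obj z.obj.fst) z.obj.fst.hom rfl

theorem baseOver_arrowOf (z : (FibCat.fp (baseFun η) π).obj) :
    StMod.baseOver π z.obj.snd (arrowOf π η z) = eqToHom (fp_p_snd z) ≫ z.obj.fst.hom := by
  show eqToHom _ ≫ (AlgSt.ofSp M).p.map (z.obj.iso.inv ≫ _) = _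
  rw [Functor.map_comp, (IsVert.inv (fp_isVert z)).map_eq]
  simp only [← Category.assoc, eqToHom_trans]
  rfl

theorem map_snd_arrowOf {z z' : (FibCat.fp (baseFun η) π).obj} (f : z' ⟶ z) :
    π.map f.hom.snd ≫ arrowOf π η z = arrowOf π η z' := by
  refine arrow_ext π (congrArg (fun m => Over.Hom.left m) ?_)
  rw [← StMod.map_comp_baseOver, baseOver_arrowOf, baseOver_arrowOf]
  erw [fp_map_snd f]
  simp only [Category.assoc, eqToHom_trans_assoc, eqToHom_refl, Category.id_comp]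
  exact congrArg (eqToHom (fp_p_snd z') ≫ ·) (Over.w f.hom.fst)

theorem arrowOf_pairObj (ξ : 𝒳.obj) (β : π.obj ξ ⟶ η) : arrowOf π η (pairObj π η ξ β) = β := by
  refine arrow_ext π (congrArg (fun m => Over.Hom.left m) ?_)
  refine (baseOver_arrowOf π η (pairObj π η ξ β)).trans ?_
  exact (congrArg (· ≫ StMod.baseOver π ξ β) (eqToHom_refl _ _)).trans (Category.id_comp _)

variable {π η}

/-- The half of an atlas covering the pairs. -/
theorem exists_pair_cover (h𝒳 : FibCat.IsFibGrpd 𝒳.p)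
    (hqc : AlgSt.IsQuasiCompactMor Scheme.fppfPrecoverage π) [IsAffine η.base.left] :
    ∃ (a : 𝒳.obj) (α : π.obj a ⟶ η), IsAffine (StMod.sch 𝒳 a) ∧
      ∀ ξ (β : π.obj ξ ⟶ η), ∃ (ζ : 𝒳.obj) (φ : ζ ⟶ ξ) (ψ : ζ ⟶ a),
        IsCovHom φ ∧ π.map φ ≫ β = π.map ψ ≫ α := by
  obtain ⟨U, x, hU, hx, hxs⟩ := hqc _ (isAlgStack_overCat η.base) isQuasiCompact_overCat (baseFun η)
  have hfp : FibCat.IsFibGrpd (FibCat.fp (baseFun η) π).p :=
    isFibGrpd_fp (isFibGrpd_overCat _) h𝒳 (Stk.isFibGrpd_ofPsh M.obj)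
  let z₀ := x.obj (idObj U)
  refine ⟨z₀.obj.snd, arrowOf π η z₀, ?_, fun ξ β => ?_⟩
  · have hb : 𝒳.p.obj z₀.obj.snd = U := (fp_p_snd z₀).trans (x.w_obj (idObj U))
    show IsAffine (𝒳.p.obj z₀.obj.snd).left
    exact hb ▸ hU
  obtain ⟨w, φ, ψ, hφ⟩ := exists_cover_of_chart hfp hx hxs (pairObj π η ξ β)
  refine ⟨w.obj.snd, φ.hom.snd, ψ.hom.snd, IsCovHom.map (FibCat.fpSnd _ _) hφ, ?_⟩
  refine Eq.trans ?_ (map_snd_arrowOf π η ψ).symm
  exact (congrArg (fun b => π.map φ.hom.snd ≫ b) (arrowOf_pairObj π η ξ β).symm).trans (map_snd_arrowOf π η φ)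

/-- An atlas of the pairs exists for a quasi-compact quasi-separated morphism and an affine base. -/
theorem exists_atlas (h𝒳 : FibCat.IsFibGrpd 𝒳.p)
    (hqc : AlgSt.IsQuasiCompactMor Scheme.fppfPrecoverage π) (hqs : AlgSt.IsQuasiSeparatedMor π)
    [IsAffine η.base.left] : Nonempty (Atlas π η) := by
  obtain ⟨a, α, ha, hcov⟩ := exists_pair_cover h𝒳 hqc (η := η)
  let f := (StMod.baseOver π a α).left
  have : IsAffine ((AlgSt.ofSp M).p.obj η).left := inferInstanceAs (IsAffine η.base.left)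
  have : IsAffine (𝒳.p.obj a).left := ha
  have hQ : IsAffine (pullback f f) := inferInstance
  let pr₁ : pullback f f ⟶ StMod.sch 𝒳 a := pullback.fst _ _
  let pr₂ : pullback f f ⟶ StMod.sch 𝒳 a := pullback.snd _ _
  let Q : Over S := Over.mk (pr₁ ≫ (𝒳.p.obj a).hom)
  have hw₂ : pr₂ ≫ (𝒳.p.obj a).hom = Q.hom := by
    show pr₂ ≫ _ = pr₁ ≫ _
    rw [← Over.w (StMod.baseOver π a α), ← Category.assoc, ← Category.assoc, pullback.condition]
  obtain ⟨a₁, q₁, hb₁, hq₁⟩ := exists_lift' h𝒳 (x := a) (V := Q) (Over.homMk pr₁ rfl)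
  obtain ⟨a₂, q₂, hb₂, hq₂⟩ := exists_lift' h𝒳 (x := a) (V := Q) (Over.homMk pr₂ hw₂)
  have hp₁₂ : 𝒳.p.obj a₁ = 𝒳.p.obj a₂ := hb₁.trans hb₂.symm
  have hcond : 𝒳.p.map q₁ ≫ StMod.baseOver π a α =
      eqToHom hp₁₂ ≫ 𝒳.p.map q₂ ≫ StMod.baseOver π a α := by
    rw [hq₁, hq₂]
    ext1
    simp only [Category.assoc, eqToHom_trans_assoc]
    rw [Over.comp_left, Over.comp_left, Over.comp_left, Over.comp_left]
    exact congrArg ((eqToHom hb₁).left ≫ ·) pullback.condition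
  obtain ⟨v, ⟨hvm, -⟩, -⟩ := factor_unique (Stk.isFibGrpd_ofPsh M.obj) (π.map q₂ ≫ α) (π.map q₁ ≫ α)
    (eqToHom ((π.w_obj a₁).trans (hp₁₂.trans (π.w_obj a₂).symm))) (by
      refine (cancel_epi (eqToHom (π.w_obj a₁).symm)).1 ?_
      rw [eqToHom_trans_assoc]
      show eqToHom _ ≫ (AlgSt.ofSp M).p.map (π.map q₂ ≫ α) = StMod.baseOver π a₁ (π.map q₁ ≫ α)
      rw [← StMod.map_comp_baseOver π q₁ α, hcond, StMod.map_comp_baseOver, StMod.baseOver,
        eqToHom_trans_assoc])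
  have hv : IsVert (AlgSt.ofSp M).p v := ⟨_, hvm⟩
  have := hv.isIso (Stk.isFibGrpd_ofPsh M.obj)
  let P : (FibCat.fp π π).obj := fpMk a₁ a₂ (asIso v) hv
  have hfp : FibCat.IsFibGrpd (FibCat.fp π π).p := isFibGrpd_fp h𝒳 h𝒳 (Stk.isFibGrpd_ofPsh M.obj)
  let y : FibCat.overCat ((FibCat.fp π π).p.obj P) ⥤ᵇ FibCat.fp π π := overFunctor hfp P rfl
  obtain ⟨i, hi⟩ := overFunctor_eval hfp P (rfl : (FibCat.fp π π).p.obj P = (FibCat.fp π π).p.obj P)
  obtain ⟨F, e, he, hF, -⟩ := hqs _ y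
  have hQ' : IsAffine ((FibCat.fp π π).p.obj P).left := by
    show IsAffine (𝒳.p.obj a₁).left
    exact hb₁ ▸ hQ
  have hFqc : AlgSp.IsQuasiCompactSp F.obj :=
    hF (AlgSp.IsAlgSpace.yon_obj _) ((isQuasiCompactSp_yon_iff _).2 inferInstance) (𝟙 _) (𝟙 _) _
      IsPullback.of_id_fst
  obtain ⟨U, x, hU, hx, hxs⟩ := (isQuasiCompact_ofSp_iff F.property).2 hFqc
  -- the two projections of an object of `fp y diag`
  let toP : ∀ z : (FibCat.fp y (FibCat.diag π)).obj, (FibCat.diag π).obj z.obj.snd ⟶ P := fun z =>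
    z.obj.iso.inv ≫ y.map (toId z.obj.fst) ≫ i.hom
  let p₁ : ∀ z : (FibCat.fp y (FibCat.diag π)).obj, z.obj.snd ⟶ a := fun z => (toP z).hom.fst ≫ q₁
  let p₂ : ∀ z : (FibCat.fp y (FibCat.diag π)).obj, z.obj.snd ⟶ a := fun z => (toP z).hom.snd ≫ q₂
  have hnat : ∀ {z' z : (FibCat.fp y (FibCat.diag π)).obj} (m : z' ⟶ z),
      (FibCat.diag π).map m.hom.snd ≫ toP z = toP z' := by
    intro z' z m
    have w : y.map m.hom.fst ≫ z.obj.iso.hom = z'.obj.iso.hom ≫ (FibCat.diag π).map m.hom.snd := m.hom.w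
    show (FibCat.diag π).map m.hom.snd ≫ z.obj.iso.inv ≫ y.map (toId z.obj.fst) ≫ i.hom = _
    rw [← cancel_epi z'.obj.iso.hom, ← Category.assoc, ← w, Category.assoc, Iso.hom_inv_id_assoc,
      Iso.hom_inv_id_assoc, ← Category.assoc, ← Functor.map_comp, toId_naturality]
  have hnat₁ : ∀ {z' z : (FibCat.fp y (FibCat.diag π)).obj} (m : z' ⟶ z), m.hom.snd ≫ p₁ z = p₁ z' :=
    fun {z' z} m => (Category.assoc _ _ _).symm.trans
      (congrArg (fun f : (FibCat.diag π).obj z'.obj.snd ⟶ P => f.hom.fst ≫ q₁) (hnat m))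
  have hnat₂ : ∀ {z' z : (FibCat.fp y (FibCat.diag π)).obj} (m : z' ⟶ z), m.hom.snd ≫ p₂ z = p₂ z' :=
    fun {z' z} m => (Category.assoc _ _ _).symm.trans
      (congrArg (fun f : (FibCat.diag π).obj z'.obj.snd ⟶ P => f.hom.snd ≫ q₂) (hnat m))
  let z₀ := e.obj (x.obj (idObj U))
  have hbmap : ∀ {ζ : 𝒳.obj} (m : (FibCat.diag π).obj ζ ⟶ P),
      π.map (m.hom.fst ≫ q₁) ≫ α = π.map (m.hom.snd ≫ q₂) ≫ α := by
    intro ζ m
    refine arrow_ext π (congrArg (fun m => Over.Hom.left m) ?_)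
    rw [← StMod.map_comp_baseOver, ← StMod.map_comp_baseOver, Functor.map_comp, Functor.map_comp,
      Category.assoc, Category.assoc, hcond]
    erw [fp_map_snd m]
    simp only [Category.assoc, eqToHom_trans_assoc, eqToHom_refl, Category.id_comp]
  refine ⟨{ a := a, α := α, affine := ha, cover := hcov, b := z₀.obj.snd, p₁ := p₁ z₀, p₂ := p₂ z₀,
            affine' := ?_, comm := hbmap (toP z₀), rel := ?_ }⟩
  · have hb : 𝒳.p.obj z₀.obj.snd = U :=
      (fp_p_snd z₀).trans ((e.w_obj _).trans (x.w_obj (idObj U)))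
    show IsAffine (𝒳.p.obj z₀.obj.snd).left
    exact hb ▸ hU
  intro ζ ψ₁ ψ₂ hψ
  have hbase : 𝒳.p.map ψ₁ ≫ StMod.baseOver π a α = 𝒳.p.map ψ₂ ≫ StMod.baseOver π a α := by
    rw [StMod.map_comp_baseOver, StMod.map_comp_baseOver, hψ]
  let g : StMod.sch 𝒳 ζ ⟶ pullback f f :=
    pullback.lift (StMod.bmap 𝒳 ψ₁) (StMod.bmap 𝒳 ψ₂) (congrArg (fun m => Over.Hom.left m) hbase)
  let gQ : 𝒳.p.obj ζ ⟶ Q := Over.homMk g (by
    show g ≫ pr₁ ≫ _ = _
    rw [pullback.lift_fst_assoc]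
    exact Over.w (𝒳.p.map ψ₁))
  obtain ⟨ψ₁', ⟨hm₁, hc₁⟩, -⟩ := factor_unique h𝒳 q₁ ψ₁ (gQ ≫ eqToHom hb₁.symm) (by
    rw [hq₁, Category.assoc, eqToHom_trans_assoc, eqToHom_refl, Category.id_comp]
    exact Over.OverMorphism.ext (pullback.lift_fst _ _ _))
  obtain ⟨ψ₂', ⟨hm₂, hc₂⟩, -⟩ := factor_unique h𝒳 q₂ ψ₂ (gQ ≫ eqToHom hb₂.symm) (by
    rw [hq₂, Category.assoc, eqToHom_trans_assoc, eqToHom_refl, Category.id_comp]
    exact Over.OverMorphism.ext (pullback.lift_snd _ _ _))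
  let m : (FibCat.diag π).obj ζ ⟶ P := fpHom ψ₁' ψ₂' (by
    refine elt_hom_ext_p ?_
    rw [Functor.map_comp, Functor.map_comp, hv.map_eq |> fun h => (show (AlgSt.ofSp M).p.map P.obj.iso.hom = _ from h),
      map_map π ψ₁', map_map π ψ₂', hm₁, hm₂, (fp_isVert ((FibCat.diag π).obj ζ)).map_eq]
    simp only [Category.assoc, eqToHom_trans]
    erw [eqToHom_trans_assoc])
  let gz : (FibCat.overCat ((FibCat.fp π π).p.obj P)).obj := Over.mk ((FibCat.fp π π).p.map m)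
  let M₀ : y.obj gz ⟶ P := y.map (toId gz) ≫ i.hom
  have hM₀ : (FibCat.fp π π).p.map M₀ =
      eqToHom (y.w_obj gz) ≫ (FibCat.fp π π).p.map m := by
    rw [Functor.map_comp, map_map y, hi.map_eq]
    simp only [Category.assoc, eqToHom_trans]
    erw [Category.comp_id]
    rfl
  obtain ⟨k, ⟨hkm, hkc⟩, -⟩ := factor_unique hfp m M₀ (eqToHom (y.w_obj gz)) hM₀.symm
  have hk : IsVert (FibCat.fp π π).p k := ⟨y.w_obj gz, hkm⟩
  have := hk.isIso hfp
  let z : (FibCat.fp y (FibCat.diag π)).obj := fpMk gz ζ (asIso k) hk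
  have hz : toP z = m := by
    show inv k ≫ M₀ = m
    rw [IsIso.inv_comp_eq, hkc]
  have hzp₁ : p₁ z = ψ₁ := (congrArg (fun f : (FibCat.diag π).obj ζ ⟶ P => f.hom.fst ≫ q₁) hz).trans hc₁
  have hzp₂ : p₂ z = ψ₂ := (congrArg (fun f : (FibCat.diag π).obj ζ ⟶ P => f.hom.snd ≫ q₂) hz).trans hc₂
  obtain ⟨w, j, hj⟩ := exists_vert_preimage he z
  obtain ⟨ω, φ, ψ, hφ⟩ := exists_cover_of_chart (Stk.isFibGrpd_ofPsh F.obj.obj) hx hxs w
  refine ⟨(e.obj ω).obj.snd, (e.map φ ≫ j.hom).hom.snd, (e.map ψ).hom.snd,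
    IsCovHom.map (FibCat.fpSnd _ _) ((IsCovHom.map e hφ).comp (isCovHom_of_isIso j.hom)), ?_, ?_⟩
  · rw [hnat₁ (e.map ψ), ← hnat₁ (e.map φ ≫ j.hom), hzp₁]
  · rw [hnat₂ (e.map ψ), ← hnat₂ (e.map φ ≫ j.hom), hzp₂]

end Groth.StModSect
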