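import Groth.Agent.StMod.Sect.Exist
import Groth.Prelude.Def_StMod6

/-!
# Sections of pushforwards along the base change of a morphism to a sheaf (helper34)

For `g : M' ⟶ M` the sections of the inverse image over an object of `M'` are the sections over its
image in `M`.
-/

set_option autoImplicit false
set_option backward.isDefEq.respectTransparency false
set_option backward.isDefEq.respectTransparency.types false

universe u

open CategoryTheory CategoryTheory.Limits AlgebraicGeometry Opposite TopologicalSpace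

noncomputable section

namespace Groth.StModSect

open Groth.StkBase

section Cast

variable {X X' T T' : Scheme.{u}}

/-- A global section read along an equality of schemes. -/
def castSec (h : X = T) {N : X.Modules} (x : Γ(N, ⊤)) : Γ(StMod.castMod h N, ⊤) := by
  subst h; exact x

theorem castSec_rfl {N : X.Modules} (x : Γ(N, ⊤)) : castSec rfl x = x := rfl

theorem castHom_castSec (h : X = T) {N N' : X.Modules} (a : N ⟶ N') (x : Γ(N, ⊤)) :
    (StMod.castHom h a).app ⊤ (castSec h x) = castSec h (a.app ⊤ x) := by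
  subst h; rfl

theorem castHom_surjective (h : X = T) {N N' : X.Modules} (a : N ⟶ N')
    (ha : Function.Surjective (a.app ⊤)) : Function.Surjective ((StMod.castHom h a).app ⊤) := by
  subst h; exact ha

theorem castMap_castSec (hX : X = T) (hX' : X' = T') {g₁ : X' ⟶ X} {g : T' ⟶ T}
    (hg : g₁ ≫ eqToHom hX = eqToHom hX' ≫ g) {N : X.Modules} {N' : X'.Modules}
    (m : N ⟶ (Scheme.Modules.pushforward g₁).obj N') (x : Γ(N, ⊤)) :
    (show Γ(StMod.castMod hX' N', ⊤) from (StMod.castMap hX hX' hg m).app ⊤ (castSec hX x)) =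
      castSec hX' (show Γ(N', ⊤) from m.app ⊤ x) := by
  subst hX hX'
  obtain rfl : g₁ = g := by simpa using hg
  rw [StMod.castMap_rfl_self, castSec_rfl, castSec_rfl]
  rfl

end Cast

variable {S : Scheme.{u}} {𝒳 : AlgSt.Cat S} {M M' : AlgSp.Sp S}
variable (π : 𝒳 ⥤ᵇ AlgSt.ofSp M) (g : M' ⟶ M)

/-- The base change of `π` along `g`. -/
abbrev fpCat : AlgSt.Cat S := FibCat.fp (AlgSt.ofSpMap g) π

/-- Its projection to `M'`. -/
abbrev fpπ : fpCat π g ⥤ᵇ AlgSt.ofSp M' := FibCat.fpFst (AlgSt.ofSpMap g) π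

theorem mapTop_comap (F : StMod.Mod 𝒳) {z' z : (fpCat π g).obj} (f : z' ⟶ z)
    (x : Γ(F.obj z.obj.snd, ⊤)) :
    (StMod.Mod.comap (FibCat.fpSnd (AlgSt.ofSpMap g) π) F).mapTop f
        (castSec (StMod.sch_obj_eq (FibCat.fpSnd (AlgSt.ofSpMap g) π) z) x) =
      castSec (StMod.sch_obj_eq (FibCat.fpSnd (AlgSt.ofSpMap g) π) z') (F.mapTop f.hom.snd x) :=
  castMap_castSec _ _ _ (F.map ((FibCat.fpSnd (AlgSt.ofSpMap g) π).map f) rfl) x

variable (η' : (AlgSt.ofSp M').obj)

/-- The object of the base change over a pair. -/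
def yObj (ξ : 𝒳.obj) (α : π.obj ξ ⟶ (AlgSt.ofSpMap g).obj η') : (fpCat π g).obj :=
  fpMk (⟨𝒳.p.obj ξ, M'.obj.map (StMod.baseOver π ξ α).op η'.sec⟩ : (AlgSt.ofSp M').obj) ξ
    { hom := eltHom (eqToHom (π.w_obj ξ).symm) (by
        refine (map_baseOver_sec π ((AlgSt.ofSpMap g).obj η') α).symm.trans ?_
        exact (NatTrans.naturality_apply g.hom (StMod.baseOver π ξ α).op η'.sec).symm)
      inv := eltHom (eqToHom (π.w_obj ξ)) (by
        show M.obj.map _ (g.hom.app _ (M'.obj.map (StMod.baseOver π ξ α).op η'.sec)) = _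
        refine (congrArg _ (NatTrans.naturality_apply g.hom (StMod.baseOver π ξ α).op η'.sec)).trans ?_
        refine (congrArg _ (map_baseOver_sec π ((AlgSt.ofSpMap g).obj η') α)).trans ?_
        refine (map_op_comp M.obj _ _ _).trans ?_
        exact map_op_id M.obj _ (eqToHom_trans _ _) _)
      hom_inv_id := elt_hom_ext_p (eqToHom_trans (π.w_obj ξ).symm (π.w_obj ξ))
      inv_hom_id := elt_hom_ext_p (eqToHom_trans (π.w_obj ξ) (π.w_obj ξ).symm) }
    ⟨(π.w_obj ξ).symm, rfl⟩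

/-- Its morphism to `η'`. -/
def yArrow (ξ : 𝒳.obj) (α : π.obj ξ ⟶ (AlgSt.ofSpMap g).obj η') :
    (fpπ π g).obj (yObj π g η' ξ α) ⟶ η' :=
  eltHom (StMod.baseOver π ξ α) rfl

/-- The functoriality of `yObj`. -/
theorem exists_yHom {ξ' ξ : 𝒳.obj} (φ : ξ' ⟶ ξ) (α : π.obj ξ ⟶ (AlgSt.ofSpMap g).obj η') :
    ∃ f : yObj π g η' ξ' (π.map φ ≫ α) ⟶ yObj π g η' ξ α,
      f.hom.snd = φ ∧ (fpπ π g).map f ≫ yArrow π g η' ξ α = yArrow π g η' ξ' (π.map φ ≫ α) := by
  refine ⟨fpHom (eltHom (𝒳.p.map φ) ((map_op_comp M'.obj _ _ _).trans ?_)) φ ?_, rfl, ?_⟩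
  · exact congrArg (fun b => M'.obj.map b.op η'.sec) (StMod.map_comp_baseOver π φ α)
  · refine elt_hom_ext_p ?_
    rw [Functor.map_comp, Functor.map_comp, map_map π φ]
    show 𝒳.p.map φ ≫ eqToHom (π.w_obj ξ).symm =
      eqToHom (π.w_obj ξ').symm ≫ eqToHom (π.w_obj ξ') ≫ 𝒳.p.map φ ≫ eqToHom (π.w_obj ξ).symm
    simp
  · refine elt_hom_ext_p ?_
    exact StMod.map_comp_baseOver π φ α

/-- The image in `M` of a morphism to `η'`. -/
def gArrow (z : (fpCat π g).obj) (β : (fpπ π g).obj z ⟶ η') :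
    π.obj z.obj.snd ⟶ (AlgSt.ofSpMap g).obj η' :=
  z.obj.iso.inv ≫ (AlgSt.ofSpMap g).map β

theorem gArrow_yArrow (ξ : 𝒳.obj) (α : π.obj ξ ⟶ (AlgSt.ofSpMap g).obj η') :
    gArrow π g η' (yObj π g η' ξ α) (yArrow π g η' ξ α) = α := by
  refine elt_hom_ext_p ?_
  show eqToHom (π.w_obj ξ) ≫ StMod.baseOver π ξ α = (AlgSt.ofSp M).p.map α
  rw [StMod.baseOver, eqToHom_trans_assoc, eqToHom_refl, Category.id_comp]

variable {π g η'} {F : StMod.Mod 𝒳}

/-- Restriction of sections to the base change. -/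
def up (s : F.RelSect π ((AlgSt.ofSpMap g).obj η')) :
    (StMod.Mod.comap (FibCat.fpSnd (AlgSt.ofSpMap g) π) F).RelSect (fpπ π g) η' :=
  ⟨fun z β => castSec (StMod.sch_obj_eq (FibCat.fpSnd (AlgSt.ofSpMap g) π) z)
      (s.1 z.obj.snd (gArrow π g η' z β)), fun z' z f β => by
    refine (mapTop_comap π g F f (s.1 z.obj.snd (gArrow π g η' z β))).trans ?_
    refine congrArg (castSec _) ((s.2 f.hom.snd _).trans (congrArg (s.1 z'.obj.snd) ?_))
    have w : (AlgSt.ofSpMap g).map f.hom.fst ≫ z.obj.iso.hom = z'.obj.iso.hom ≫ π.map f.hom.snd := f.hom.w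
    show π.map f.hom.snd ≫ z.obj.iso.inv ≫ (AlgSt.ofSpMap g).map β =
      z'.obj.iso.inv ≫ (AlgSt.ofSpMap g).map (f.hom.fst ≫ β)
    rw [Functor.map_comp, ← cancel_epi z'.obj.iso.hom, ← Category.assoc, ← w, Category.assoc,
      Iso.hom_inv_id_assoc, Iso.hom_inv_id_assoc]⟩

/-- Descent of sections from the base change. -/
def down (s : (StMod.Mod.comap (FibCat.fpSnd (AlgSt.ofSpMap g) π) F).RelSect (fpπ π g) η') :
    F.RelSect π ((AlgSt.ofSpMap g).obj η') :=
  ⟨fun ξ α => s.1 (yObj π g η' ξ α) (yArrow π g η' ξ α), fun ξ' ξ φ α => by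
    obtain ⟨f, hf, hf'⟩ := exists_yHom π g η' φ α
    refine Eq.trans ?_ ((s.2 f _).trans (congrArg (s.1 _) hf'))
    exact (congrArg (fun ψ : ξ' ⟶ ξ => F.mapTop ψ (s.1 (yObj π g η' ξ α) (yArrow π g η' ξ α))) hf).symm.trans
      (mapTop_comap π g F f _).symm⟩

/-- Surjectivity on sections passes from the base change to the original morphism. -/
theorem relSectMap_surjective_of_comap {G : StMod.Mod 𝒳} (u : F ⟶ G)
    (h : Function.Surjective
      (StMod.Mod.relSectMap (fpπ π g) (StMod.Mod.comapMap (FibCat.fpSnd (AlgSt.ofSpMap g) π) u) η')) :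
    Function.Surjective (StMod.Mod.relSectMap π u ((AlgSt.ofSpMap g).obj η')) := by
  intro t
  obtain ⟨s, hs⟩ := h (up t)
  refine ⟨down s, StMod.Mod.RelSect.ext _ _ _ fun ξ α => ?_⟩
  have := congrFun (congrFun (congrArg Subtype.val hs) (yObj π g η' ξ α)) (yArrow π g η' ξ α)
  refine this.trans ?_
  show t.1 ξ (gArrow π g η' (yObj π g η' ξ α) (yArrow π g η' ξ α)) = _
  rw [gArrow_yArrow]

/-- Inverse image preserves surjectivity over affine objects. -/
theorem isSurj_comapMap {𝒴 : AlgSt.Cat S} (f : 𝒴 ⥤ᵇ 𝒳) {G : StMod.Mod 𝒳} (u : F ⟶ G)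
    (hu : StMod.Mod.IsSurj u) : StMod.Mod.IsSurj (StMod.Mod.comapMap f u) := fun y hy => by
  rw [StMod.Mod.comapMap_app]
  exact castHom_surjective _ _ (hu _ ((StMod.sch_obj_eq f y).symm ▸ hy))

end Groth.StModSect
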