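import Groth.Agent.StMod.Sect.BaseChange
import Groth.Agent.StMod.Sect.FibProd
import Groth.Agent.AlgStBasic.Atlas

/-!
# Flat descent of cohomological affineness and of `O ≅ π_* O` (helper34)
-/

set_option autoImplicit false
set_option backward.isDefEq.respectTransparency false
set_option backward.isDefEq.respectTransparency.types false

universe w v u

open CategoryTheory CategoryTheory.Limits AlgebraicGeometry Opposite TopologicalSpace
open scoped TensorProduct

noncomputable section

namespace Groth.StModSect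

open Groth.StkBase

section Algebra

variable {C : Type u} [CommRing C] {N : Type w} [AddCommGroup N] [Module C N]

/-- A prime in the image of a flat algebra killing `v` does not contain the annihilator of `v`. -/
theorem colon_not_le_of_one_tmul {B : Type u} [CommRing B] [Algebra C B] [Module.Flat C B] (v : N)
    (h : (1 : B) ⊗ₜ[C] v = 0) (q : Ideal B) [q.IsPrime] :
    ¬ LinearMap.ker (LinearMap.toSpanSingleton C N v) ≤ q.comap (algebraMap C B) := by
  intro hle
  let I := LinearMap.ker (LinearMap.toSpanSingleton C N v)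
  have hz : (LinearMap.toSpanSingleton C N v).lTensor B ((1 : B) ⊗ₜ (1 : C)) = 0 := by
    rw [LinearMap.lTensor_tmul, LinearMap.toSpanSingleton_apply, one_smul, h]
  obtain ⟨z, hz⟩ := ((Module.Flat.lTensor_exact B
    (LinearMap.exact_subtype_ker_map (LinearMap.toSpanSingleton C N v))) _).1 hz
  have key : ∀ w : B ⊗[C] I, TensorProduct.rid C B ((Submodule.subtype I).lTensor B w) ∈ q := by
    intro w
    induction w using TensorProduct.induction_on with
    | zero => simp
    | add x y hx hy => rw [map_add, map_add]; exact add_mem hx hy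
    | tmul b i =>
      rw [LinearMap.lTensor_tmul, TensorProduct.rid_tmul, Algebra.smul_def]
      exact Ideal.mul_mem_right b q (hle i.2)
  have h1 := key z
  rw [hz, TensorProduct.rid_tmul, one_smul] at h1
  exact Ideal.IsPrime.ne_top ‹q.IsPrime› ((Ideal.eq_top_iff_one q).2 h1)

end Algebra

variable {S : Scheme.{u}} {𝒳 : BasedCategory.{v, w} (Over S)} {M : AlgSp.Sp S}
variable {π : 𝒳 ⥤ᵇ AlgSt.ofSp M} {η : (AlgSt.ofSp M).obj}

/-- The property `P` holds locally on the affine base `η` for the flat topology. -/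
def HasFlatCover (η : (AlgSt.ofSp M).obj) (P : (AlgSt.ofSp M).obj → Prop) : Prop :=
  ∀ x : StMod.sch (AlgSt.ofSp M) η, ∃ (η' : (AlgSt.ofSp M).obj) (k : η' ⟶ η),
    IsAffine (StMod.sch (AlgSt.ofSp M) η') ∧ Flat (baseMor k) ∧ (∃ y, baseMor k y = x) ∧ P η'

/-- A flat cover detects vanishing in modules over the functions on an affine base. -/
theorem eq_zero_of_hasFlatCover [IsAffine (StMod.sch (AlgSt.ofSp M) η)] {P : (AlgSt.ofSp M).obj → Prop}
    (hc : HasFlatCover η P) {N : Type*} [AddCommGroup N] [Module Γ(StMod.sch (AlgSt.ofSp M) η, ⊤) N] (v : N)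
    (hv : ∀ (η' : (AlgSt.ofSp M).obj) (k : η' ⟶ η), IsAffine (StMod.sch (AlgSt.ofSp M) η') →
      Flat (baseMor k) → P η' →
      letI := algTop (baseMor k)
      (1 : Γ(StMod.sch (AlgSt.ofSp M) η', ⊤)) ⊗ₜ[Γ(StMod.sch (AlgSt.ofSp M) η, ⊤)] v = 0) :
    v = 0 := by
  let I := LinearMap.ker (LinearMap.toSpanSingleton Γ(StMod.sch (AlgSt.ofSp M) η, ⊤) N v)
  suffices hI : I = ⊤ by
    have h1 : (1 : Γ(StMod.sch (AlgSt.ofSp M) η, ⊤)) ∈ I := hI ▸ Submodule.mem_top
    simpa [I] using h1
  by_contra hne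
  obtain ⟨m, hm, hIm⟩ := Ideal.exists_le_maximal I hne
  let T := StMod.sch (AlgSt.ofSp M) η
  obtain ⟨η', k, hη', hk, ⟨y, hy⟩, hP⟩ := hc (T.isoSpec.inv ⟨m, hm.isPrime⟩)
  have := hη'
  let := algTop (baseMor k)
  have : Module.Flat Γ(StMod.sch (AlgSt.ofSp M) η, ⊤) Γ(StMod.sch (AlgSt.ofSp M) η', ⊤) := by
    rw [← RingHom.flat_algebraMap_iff]
    have e : algebraMap Γ(StMod.sch (AlgSt.ofSp M) η, ⊤) Γ(StMod.sch (AlgSt.ofSp M) η', ⊤) =
        (baseMor k).appTop.hom := RingHom.ext (algTop_apply (baseMor k))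
    rw [e]
    exact (baseMor k).flat_appTop
  let q : PrimeSpectrum Γ(StMod.sch (AlgSt.ofSp M) η', ⊤) := (StMod.sch (AlgSt.ofSp M) η').isoSpec.hom y
  refine colon_not_le_of_one_tmul v (hv η' k hη' hk hP) q.asIdeal (hIm.trans (le_of_eq ?_))
  have h1 : Spec.map (baseMor k).appTop q = (⟨m, hm.isPrime⟩ : PrimeSpectrum Γ(T, ⊤)) := by
    have hn := congr(($(Scheme.isoSpec_hom_naturality (baseMor k))).base y)
    simp only [Scheme.Hom.comp_base, TopCat.comp_app] at hn
    refine hn.trans ?_
    rw [hy]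
    exact congr(($(T.isoSpec.inv_hom_id)).base ⟨m, hm.isPrime⟩)
  have h2 := congrArg PrimeSpectrum.asIdeal h1
  refine h2.symm.trans ?_
  show Ideal.comap (baseMor k).appTop.hom q.asIdeal = _
  exact congrArg (fun f => Ideal.comap f q.asIdeal) (RingHom.ext fun c => (algTop_apply (baseMor k) c).symm)

/-- The base change maps commute with morphisms of modules. -/
theorem bcHom_map {η' : (AlgSt.ofSp M).obj} (k : η' ⟶ η) {F G : StMod.Mod 𝒳} (u : F ⟶ G) :
    letI := algTop (baseMor k)
    ∀ z, bcHom (π := π) k G ((StMod.Mod.relSectMap π u η).lTensor _ z) =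
      StMod.Mod.relSectMap π u η' (bcHom k F z) := by
  let := algTop (baseMor k)
  intro z
  induction z using TensorProduct.induction_on with
  | zero => simp
  | add x y hx hy => simp [hx, hy]
  | tmul c s => rw [LinearMap.lTensor_tmul, bcHom_tmul, bcHom_tmul, map_smul, relRes_relSectMap]

/-- Surjectivity on sections of pushforwards descends along flat covers of an affine base. -/
theorem relSectMap_surjective_of_cover (hp : FibCat.IsFibGrpd 𝒳.p) (A : Atlas π η)
    [IsAffine (StMod.sch (AlgSt.ofSp M) η)] {F G : StMod.QCoh 𝒳} (u : F ⟶ G)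
    (hc : HasFlatCover η fun η' => Function.Surjective (StMod.Mod.relSectMap π u.hom η')) :
    Function.Surjective (StMod.Mod.relSectMap π u.hom η) := by
  intro v
  have h0 : (LinearMap.range (StMod.Mod.relSectMap π u.hom η)).mkQ v = 0 := by
    refine eq_zero_of_hasFlatCover hc _ fun η' k hη' hk hs => ?_
    let := algTop (baseMor k)
    obtain ⟨w, hw⟩ := hs (relRes k G.obj v)
    obtain ⟨z, rfl⟩ := (bcHom_bijective k hp A (F := F.obj) F.property.1 F.property.2).2 w
    rw [← bcHom_map, ← one_smul Γ(StMod.sch (AlgSt.ofSp M) η', ⊤) (relRes k G.obj v), ← bcHom_tmul] at hw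
    have hw' := (bcHom_bijective k hp A (F := G.obj) G.property.1 G.property.2).1 hw
    rw [← LinearMap.lTensor_tmul, ← hw', ← LinearMap.comp_apply, ← LinearMap.lTensor_comp,
      LinearMap.range_mkQ_comp, LinearMap.lTensor_zero, LinearMap.zero_apply]
  exact (Submodule.Quotient.mk_eq_zero _).1 h0

/-- Restriction of the unit. -/
theorem relRes_unitSect {η' : (AlgSt.ofSp M).obj} (k : η' ⟶ η) (r : Γ(StMod.sch (AlgSt.ofSp M) η, ⊤)) :
    relRes k (StMod.O 𝒳) (StMod.unitSect π η r) = StMod.unitSect π η' ((baseMor k).appTop r) := by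
  refine StMod.Mod.RelSect.ext _ _ _ fun ξ β => ?_
  show (StMod.baseOver π ξ (β ≫ k)).left.appTop r = (StMod.baseOver π ξ β).left.appTop _
  rw [baseOver_comp_left, Scheme.Hom.comp_appTop]
  rfl

/-- Bijectivity of the unit on sections descends along flat covers of an affine base. -/
theorem unitSect_bijective_of_cover (hp : FibCat.IsFibGrpd 𝒳.p) (A : Atlas π η)
    [IsAffine (StMod.sch (AlgSt.ofSp M) η)]
    (hc : HasFlatCover η fun η' => Function.Bijective (StMod.unitSect π η')) :
    Function.Bijective (StMod.unitSect π η) := by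
  refine ⟨(injective_iff_map_eq_zero _).2 fun r hr => ?_, fun v => ?_⟩
  · refine eq_zero_of_hasFlatCover hc r fun η' k hη' hk hb => ?_
    let := algTop (baseMor k)
    have h1 : StMod.unitSect π η' ((baseMor k).appTop r) = 0 := by rw [← relRes_unitSect, hr, map_zero]
    have h2 : (baseMor k).appTop r = 0 := (injective_iff_map_eq_zero _).1 hb.1 _ h1
    refine (TensorProduct.rid Γ(StMod.sch (AlgSt.ofSp M) η, ⊤) Γ(StMod.sch (AlgSt.ofSp M) η', ⊤)).injective ?_
    rw [map_zero, TensorProduct.rid_tmul, Algebra.smul_def, algTop_apply, h2, zero_mul]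
  · have h0 : (LinearMap.range (StMod.unitSect π η)).mkQ v = 0 := by
      refine eq_zero_of_hasFlatCover hc _ fun η' k hη' hk hb => ?_
      let := algTop (baseMor k)
      obtain ⟨c, hw⟩ := hb.2 (relRes k (StMod.O 𝒳) v)
      have h1 : bcHom k (StMod.O 𝒳) (c ⊗ₜ StMod.unitSect π η 1) =
          bcHom k (StMod.O 𝒳) ((1 : Γ(StMod.sch (AlgSt.ofSp M) η', ⊤)) ⊗ₜ v) := by
        rw [bcHom_tmul, bcHom_tmul, one_smul, relRes_unitSect, map_one, ← hw, ← map_smul, smul_eq_mul,
          mul_one]
      have hw' := (bcHom_bijective k hp A (F := StMod.O 𝒳) StMod.isCartesian_O StMod.isLocQCoh_O).1 h1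
      rw [← LinearMap.lTensor_tmul, ← hw', LinearMap.lTensor_tmul]
      have h3 : (LinearMap.range (StMod.unitSect π η)).mkQ (StMod.unitSect π η 1) = 0 :=
        (Submodule.Quotient.mk_eq_zero _).2 ⟨1, rfl⟩
      rw [h3, TensorProduct.tmul_zero]
    exact (Submodule.Quotient.mk_eq_zero _).1 h0

end Groth.StModSect
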